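import Cfsg.Agent.TCS.PA
import Cfsg.Agent.Classical.PSL2Four
import Cfsg.Agent.Classical.GL2Class

/-! The class sizes of `PSL₂(q)`, `q ≥ 7` odd. -/

set_option autoImplicit false

namespace Cfsg.Agent.TCS
open Subgroup Cfsg.Agent.Classical

theorem cs_psl {F : Type*} [Field F] [Fintype F] (hodd : ¬ 2 ∣ Fintype.card F) (h7 : 7 ≤ Fintype.card F) :
    ∃ m n, Num (Fintype.card F) m n ∧ Set.range (fun g : Matrix.ProjectiveSpecialLinearGroup (Fin 2) F =>
      (Subgroup.centralizer ({g} : Set _)).index) =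
      {1, 2 * m * n, Fintype.card F * m, 2 * Fintype.card F * m, 2 * Fintype.card F * n} := by
  rw [← Nat.card_eq_fintype_card] at *
  have h2 : (2 : F) ≠ 0 := fun e => hodd (by
    have : CharP F 2 := CharTwo.of_one_ne_zero_of_two_eq_zero one_ne_zero e
    obtain ⟨a, -, ha⟩ := FiniteField.card F 2
    rw [Nat.card_eq_fintype_card, ha]
    exact dvd_pow_self 2 a.ne_zero)
  have dz : ∀ g : Matrix.SpecialLinearGroup (Fin 2) F, g.1.trace = 0 → disc g.1 ≠ 0 := fun g hg e => h2 (by
    rw [disc, hg, g.2] at e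
    exact pow_eq_zero_iff (n := 2) two_ne_zero |>.1 (by linear_combination -e))
  have t4 : ∀ g : Matrix.SpecialLinearGroup (Fin 2) F, 4 < orderOf g → g.1.trace ≠ 0 := fun g hg e =>
    absurd (Nat.le_of_dvd (by decide) (orderOf_dvd_of_pow_eq_one (sl_pow_four e))) hg.not_ge
  obtain ⟨k, hk⟩ : ∃ k, Nat.card F = 2 * k + 1 := ⟨Nat.card F / 2, by omega⟩
  have hu : ∀ b : F, b ≠ 0 → (centralizer ({pslMk F (uSL b)} : Set _)).index = 2 * (k + 1) * k := fun b hb => by
    have h1 := index_centralizer_uSL hb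
    rw [← index_centralizer_pslMk (.inl (by simpa [uSL, Matrix.trace_fin_two, one_add_one_eq_two] using h2)), hk,
      show Nat.gcd 2 (2 * k + 1 - 1) = 2 by simp, show (2 * k + 1) ^ 2 - 1 = 2 * (2 * (k + 1) * k) from
        Nat.sub_eq_of_eq_add (by ring)] at h1
    omega
  have hn : ∀ g : Matrix.SpecialLinearGroup (Fin 2) F, NoEig g.1 → (centralizer ({g} : Set _)).index =
      2 * Nat.card F * k := fun g hg => by rw [index_centralizer_noEig hg, hk, Nat.add_sub_cancel]; ring
  have hs : ∀ g : Matrix.SpecialLinearGroup (Fin 2) F, disc g.1 ≠ 0 → ¬ NoEig g.1 → (centralizer ({g} : Set _)).index =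
      2 * Nat.card F * (k + 1) := fun g hg h => by rw [index_centralizer_split hg h, hk]; ring
  have key : ∀ m, (Nat.card F % 4 = 3 → m = k) → (Nat.card F % 4 ≠ 3 → m = k + 1) →
      Set.range (fun g : Matrix.ProjectiveSpecialLinearGroup (Fin 2) F => (centralizer ({g} : Set _)).index) =
      {1, 2 * (k + 1) * k, Nat.card F * m, 2 * Nat.card F * (k + 1), 2 * Nat.card F * k} := fun m m1 m2 => by
    have h0 : ∀ g : Matrix.SpecialLinearGroup (Fin 2) F, g.1.trace = 0 →
        (centralizer ({pslMk F g} : Set _)).index = Nat.card F * m := fun g hg => by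
      have h1 := two_mul_index_centralizer h2 hg
      by_cases h : NoEig g.1
      · rw [hn g h, ← m1 ((noEig_iff_of_trace_zero hg).1 h), mul_assoc] at h1
        omega
      · rw [hs g (dz g hg) h, ← m2 fun e => h ((noEig_iff_of_trace_zero hg).2 e), mul_assoc] at h1
        omega
    refine Set.Subset.antisymm ?_ ?_
    · rintro _ ⟨x, rfl⟩
      obtain ⟨g, rfl⟩ := pslMk_surjective x
      show (centralizer ({pslMk F g} : Set _)).index ∈ _
      by_cases d : disc g.1 = 0
      · obtain ⟨b, e⟩ := sl_isConj_uSL_of_disc d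
        have e' : IsConj (pslMk F g) (pslMk F (uSL b)) :=
          e.elim (MonoidHom.map_isConj _) fun e => pslMk_neg (uSL b) ▸ MonoidHom.map_isConj _ e
        rw [Gen2.cs_of_isConj e']
        by_cases hb : b = 0
        · rw [hb, uSL_zero, map_one]
          exact .inl Gen2.cs_one
        · exact .inr (.inl (hu b hb))
      by_cases t : g.1.trace = 0
      · exact .inr (.inr (.inl (h0 g t)))
      rw [index_centralizer_pslMk (.inl t)]
      by_cases h : NoEig g.1
      exacts [.inr (.inr (.inr (.inr (hn g h)))), .inr (.inr (.inr (.inl (hs g d h))))]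
    · rintro _ (rfl | rfl | rfl | rfl | rfl)
      · exact ⟨1, Gen2.cs_one⟩
      · exact ⟨_, hu 1 one_ne_zero⟩
      · exact ⟨_, h0 (compSL 0) (trace_compSL 0)⟩
      · obtain ⟨a, ha, -⟩ := exists_dSL_generator (F := F)
        refine ⟨_, (index_centralizer_pslMk (.inl (t4 _ (by omega)))).trans
          (hs _ ((disc_dSL a).2 fun e => ?_) (not_noEig_dSL a))⟩
        have : orderOf (dSL a) ∣ 2 := orderOf_dvd_of_pow_eq_one (by
          rw [sq, ← dSL_mul, show a * a = 1 from Units.ext (by simpa [sq] using e)]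
          exact map_one (dSLHom F))
        exact absurd (Nat.le_of_dvd two_pos this) (by omega)
      · obtain ⟨t, h1, h3, -⟩ := sl_exists_orderOf_succ (F := F)
        exact ⟨_, (index_centralizer_pslMk (.inl (t4 _ (by omega)))).trans (hn t h3)⟩
  by_cases h : Nat.card F % 4 = 3
  · refine ⟨k, k + 1, ⟨.inr ⟨by omega, rfl⟩, ⟨(k + 1) / 2, by omega⟩, by omega⟩, ?_⟩
    rw [key k (fun _ => rfl) fun e => absurd h e, Set.pair_comm (2 * Nat.card F * (k + 1)), mul_right_comm 2 k]
  · exact ⟨k + 1, k, ⟨.inl ⟨hk, rfl⟩, ⟨k / 2, by omega⟩, by omega⟩, key _ (fun e => absurd e h) fun _ => rfl⟩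

end Cfsg.Agent.TCS
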