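import Cfsg.Agent.TCS.PA

/-! `pd_of`: a centralizer system with the class sizes of `PSL₂(q)` has the order of `PSL₂(q)`; `PD.part`: the partition
when `n` has an odd prime divisor. (helper2) -/

set_option autoImplicit false

namespace Cfsg.Agent.TCS
open Subgroup Cfsg.Agent.BG Cfsg.Agent.FG.Ito

variable {H : Type*} [Group H] [Finite H] {c : H → Subgroup H} {q m n i : ℕ} {x y u w : H}

/-- If centralizers of index `i` are maximal and minimal and have two prime divisors, they are abelian TI. -/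
theorem CS.ab (h : CS c) (mm : ∀ x ≠ 1, ∀ y ≠ 1, c x ≤ c y → (c x).index = i ∨ (c y).index = i → c x = c y)
    (x1 : x ≠ 1) (hx : (c x).index = i) {r r' : ℕ} (hr : r.Prime) (hr' : r'.Prime) (e : r ≠ r') (d : r ∣ #(c x))
    (d' : r' ∣ #(c x)) : ∀ y ∈ c x, y ≠ 1 → c y = c x := by
  have st : ∀ u v : H, (orderOf u).Prime → (orderOf v).Prime → orderOf u ≠ orderOf v → v ∈ c u → (c u).index = i →
      c v = c u := fun u v pu pv ne m iu => by
    have co := (Nat.coprime_primes pu pv).2 ne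
    have em := h.mul m co
    have a := mm _ (mul_ne_one co (ne_one_of pu rfl)) _ (ne_one_of pu rfl) (em ▸ inf_le_left) (.inr iu)
    exact (mm _ (mul_ne_one co (ne_one_of pu rfl)) _ (ne_one_of pv rfl) (em ▸ inf_le_right) (.inl (a ▸ iu))).symm.trans a
  obtain ⟨u, hu, pu⟩ := Gen2.exists_prime_order_mem_zpowers x1
  have eu := mm x x1 u (ne_one_of pu rfl) (h.le_of_zpowers hu) (.inl hx)
  intro y hy y1
  obtain ⟨v, hv, pv⟩ := Gen2.exists_prime_order_mem_zpowers y1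
  have mv : v ∈ c u := eu ▸ zpowers_le.2 hy hv
  have : c v = c u := by
    by_cases ne : orderOf u = orderOf v
    · obtain ⟨t, ht, dt, tu⟩ : ∃ t : ℕ, t.Prime ∧ t ∣ #(c x) ∧ orderOf u ≠ t := by
        by_cases a : orderOf u = r
        exacts [⟨r', hr', d', a ▸ e⟩, ⟨r, hr, d, a⟩]
      obtain ⟨w, hw, ow⟩ := Cauchy ht dt
      have a := st u w pu (ow ▸ ht) (ow ▸ tu) (eu ▸ hw) (eu ▸ hx)
      exact (st w v (ow ▸ ht) pv (by rw [ow, ← ne]; exact tu.symm) (a ▸ mv) (by rw [a, ← eu, hx])).trans a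
    · exact st u v pu pv ne mv (eu ▸ hx)
  exact (mm y y1 v (ne_one_of pv rfl) (h.le_of_zpowers hv) (.inr (by rw [this, ← eu, hx]))).trans (this.trans eu.symm)

theorem CS.ab' (h : CS c) (mm : ∀ x ≠ 1, ∀ y ≠ 1, c x ≤ c y → (c x).index = i ∨ (c y).index = i → c x = c y)
    (x1 : x ≠ 1) (hx : (c x).index = i) {r r' : ℕ} (hr : r.Prime) (hr' : r'.Prime) (e : r ≠ r') (d : r ∣ #(c x))
    (d' : r' ∣ #(c x)) (y1 : y ≠ 1) (hy : ¬ r ∣ (c y).index) : (c y).index = i := by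
  have := Fact.mk hr
  obtain ⟨u, hu, o⟩ := Cauchy hr d
  obtain ⟨R, hR⟩ := Sylow_exists r (c y)
  obtain ⟨g, -, hg⟩ := Sylow_Jsub (sylow_mk le_top hR.pg (by simpa using syl_top hr hR hy)) (le_top (a := zpowers u))
    (IsPGroup.of_card (n := 1) (by rw [Nat.card_zpowers, o, pow_one]))
  have A := h.ab mm x1 hx hr hr' e d d'
  have m : g⁻¹ * y * g⁻¹⁻¹ ∈ c x := by
    have := h.symm (hR.1 (hg (conj_mem_cj g (mem_zpowers u))))
    rw [h.cjc, A u hu (ne_one_of hr o)] at this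
    simpa using mem_cj.1 this
  have := A _ m fun e => y1 (conj_eq_one_iff.1 e)
  rw [h.cjc] at this
  rw [← hx, ← this, index_cj]

theorem pd_of (h : CS c) (N : Num q m n)
    (hi : ∀ x ≠ 1, (c x).index = 2 * m * n ∨ (c x).index = q * m ∨ (c x).index = 2 * q * m ∨ (c x).index = 2 * q * n)
    (e1 : ∃ x ≠ 1, (c x).index = 2 * m * n) (e2 : ∃ x ≠ 1, (c x).index = q * m) (e3 : ∃ x ≠ 1, (c x).index = 2 * q * m)
    (e4 : ∃ x ≠ 1, (c x).index = 2 * q * n) : PD c q m n := by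
  obtain ⟨x, x1, hx⟩ := e1
  obtain ⟨y, y1, hy⟩ := e2
  obtain ⟨z, z1, hz⟩ := e3
  obtain ⟨w, w1, hw⟩ := e4
  have m3 := N.m3
  have q7 := N.q7
  have n4 := N.n4
  have qa : q.Coprime (2 * m * n) := by rw [show 2 * m * n = m * (2 * n) by ring]; exact N.qm.mul_right N.qn
  have ma : m.Coprime (2 * q * n) := by rw [show 2 * q * n = q * (2 * n) by ring]; exact N.qm.symm.mul_right N.m2
  have na : (2 * n).Coprime (q * m) := N.qn.symm.mul_right N.m2.symm
  have nd : ∀ {a b t : ℕ}, 1 < t → t ∣ a → t.Coprime b → ¬ a ∣ b := fun t1 d co e =>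
    t1.ne' (Nat.eq_one_of_dvd_coprimes co dvd_rfl (d.trans e))
  have n' : n.Coprime (q * m) := na.coprime_dvd_left (dvd_mul_left n 2)
  have n2 : ¬ n ∣ 2 * q * m := fun d => by
    have := Nat.le_of_dvd two_pos (n'.dvd_of_dvd_mul_right (by rwa [mul_assoc] at d))
    omega
  have dq1 : q ∣ q * m := dvd_mul_right _ _
  have dq2 : q ∣ 2 * q * m := (dvd_mul_left q 2).mul_right m
  have dq3 : q ∣ 2 * q * n := (dvd_mul_left q 2).mul_right n
  have dm1 : m ∣ 2 * m * n := (dvd_mul_left m 2).mul_right n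
  have mm : ∀ i, i = 2 * m * n ∨ i = 2 * q * n → ∀ x ≠ 1, ∀ y ≠ 1, c x ≤ c y →
      (c x).index = i ∨ (c y).index = i → c x = c y := fun i hi' x x1 y y1 le e => by
    refine eq_of_le_index le ?_
    have d := index_dvd_of_le le
    have a1 := nd (by omega) dq1 qa
    have a2 := nd (by omega) dq2 qa
    have a3 := nd (by omega) dq3 qa
    have b1 := nd (by omega) dm1 ma
    have b2 := nd (by omega) (dvd_mul_left m q) ma
    have b3 := nd (by omega) (dvd_mul_left m (2 * q)) ma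
    have c1 := nd (by omega) (dvd_mul_left n (2 * m)) n'
    have c2 := nd (by omega) (dvd_mul_left n (2 * q)) n'
    have c3 : ¬ 2 * m * n ∣ 2 * q * m := fun d => n2 ((dvd_mul_left _ _).trans d)
    have c4 : ¬ 2 * q * n ∣ 2 * q * m := fun d => n2 ((dvd_mul_left _ _).trans d)
    rcases hi' with rfl | rfl <;> rcases e with e | e
    · rcases hi y y1 with f | f | f | f <;> rw [e, f] at d <;> first | exact e.trans f.symm | contradiction
    · rcases hi x x1 with f | f | f | f <;> rw [e, f] at d <;> first | exact f.trans e.symm | contradiction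
    · rcases hi y y1 with f | f | f | f <;> rw [e, f] at d <;> first | exact e.trans f.symm | contradiction
    · rcases hi x x1 with f | f | f | f <;> rw [e, f] at d <;> first | exact f.trans e.symm | contradiction
  obtain ⟨s, hs⟩ : 2 * q * m * n ∣ Nat.card H := by
    rw [show 2 * q * m * n = q * (2 * m * n) by ring]
    exact qa.mul_dvd_of_dvd_of_dvd (dq1.trans (hy ▸ index_dvd_card _)) (hx ▸ index_dvd_card _)
  have cd : ∀ {x : H} {a b : ℕ}, (c x).index = a → a * b = 2 * q * m * n → #(c x) = b * s := fun {x a b} e f =>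
    Nat.eq_of_mul_eq_mul_right (Nat.pos_of_ne_zero (c x).index_ne_zero_of_finite) (by
      rw [card_mul_index, hs, e, ← f]; ring)
  have s1 : s = 1 := Nat.eq_one_iff_not_exists_prime_dvd.2 fun r hr dr => by
    obtain ⟨p, hp, dp⟩ := Nat.exists_prime_and_dvd (n := q) (by omega)
    obtain ⟨l, hl, dl⟩ := Nat.exists_prime_and_dvd (n := m) (by omega)
    have cx := cd (b := q) hx (by ring)
    have cw := cd (b := m) hw (by ring)
    have nr : ∀ {a b : ℕ}, a.Coprime b → r ∣ a → ¬ r ∣ b := fun co d d' => hr.one_lt.ne' (Nat.eq_one_of_dvd_coprimes co d d')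
    by_cases a : r ∣ q
    · have := h.ab' (mm _ (.inr rfl)) w1 hw hr hl (fun e => nr N.qm a (e ▸ dl)) (cw ▸ dr.mul_left _) (cw ▸ dl.mul_right _) x1
        (hx ▸ nr qa a)
      exact nd (by omega) dq3 qa (by rw [← hx, this])
    have A := fun {y} => h.ab' (y := y) (mm _ (.inl rfl)) x1 hx hr hp (fun e => a (e ▸ dp)) (cx ▸ dr.mul_left _)
      (cx ▸ dp.mul_right _)
    by_cases b : r ∣ m
    · exact nd (by omega) dq3 qa (by rw [← A w1 (hw ▸ nr ma b), hw])
    · exact nd (by omega) dq1 qa (by rw [← A y1 (by rw [hy, hr.dvd_mul]; exact fun d => d.elim a b), hy])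
  subst s1
  refine ⟨h, N, by rw [hs, mul_one], fun x x1 => ?_, ⟨z, z1, by simpa using cd (b := n) hz rfl⟩,
    ⟨y, y1, by simpa using cd (b := 2 * n) hy (by ring)⟩⟩
  rcases hi x x1 with e | e | e | e
  · exact .inl (by simpa using cd (b := q) e (by ring))
  · exact .inr (.inr (.inr (by simpa using cd (b := 2 * n) e (by ring))))
  · exact .inr (.inr (.inl (by simpa using cd (b := n) e rfl)))
  · exact .inr (.inl (by simpa using cd (b := m) e (by ring)))

/-- The system of `G / Z(G)` from the set of class sizes. -/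
theorem pd_G' {G : Type*} [Group G] [Finite G] (N : Num q m n)
    (h : Set.range (fun g : G => (centralizer ({g} : Set G)).index) = {1, 2 * m * n, q * m, 2 * q * m, 2 * q * n}) :
    PD (qc (fun x : G => C1[x]) (center G)) q m n := by
  have hZ : ∀ z ∈ center G, ∀ x : G, x ∈ C1[z] := fun z hz x =>
    mem_centralizer_singleton_iff.2 (mem_center_iff.1 hz x)
  have m3 := N.m3
  have q7 := N.q7
  have n4 := N.n4
  have ex : ∀ j ∈ ({1, 2 * m * n, q * m, 2 * q * m, 2 * q * n} : Set ℕ), 1 < j → ∃ x : G ⧸ center G, x ≠ 1 ∧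
      (qc (fun x : G => C1[x]) (center G) x).index = j := fun j hj j1 => by
    obtain ⟨x, rfl⟩ := h.ge hj
    refine ⟨x, fun e => j1.ne' (index_eq_one.2 (eq_top_iff.2 fun g _ => hZ x ((QuotientGroup.eq_one_iff x).1 e) g)),
      (cs_cent G).index_qc hZ x⟩
  refine pd_of ((cs_cent G).quot hZ) N (fun x x1 => ?_) (ex _ (by simp) (by nlinarith)) (ex _ (by simp) (by nlinarith))
    (ex _ (by simp) (by nlinarith)) (ex _ (by simp) (by nlinarith))
  induction x using QuotientGroup.induction_on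
  rename_i x
  rw [(cs_cent G).index_qc hZ]
  refine Or.resolve_left (h.le ⟨x, rfl⟩) fun e => x1 ((QuotientGroup.eq_one_iff x).2 (mem_center_iff.2 fun g => ?_))
  exact mem_centralizer_singleton_iff.1 (index_eq_one.1 e ▸ mem_top g)

namespace PD
variable (h : PD c q m n)
include h

theorem typ {l : ℕ} (hl : l.Prime) (d : l ∣ 2 * n) (x1 : x ≠ 1) (e : l ∣ #(c x)) : #(c x) = n ∨ #(c x) = 2 * n := by
  rcases h.hi x x1 with f | f | f
  · exact (hl.one_lt.ne' (Nat.eq_one_of_dvd_coprimes h.qn (f ▸ e) d)).elim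
  · exact (hl.one_lt.ne' (Nat.eq_one_of_dvd_coprimes h.m2 (f ▸ e) d)).elim
  · exact f

theorem odd_mem {A E : Subgroup H} (le : A ≤ E) (hA : #A = n ∨ #A = 2 * n) (hE : #E = n ∨ #E = 2 * n) (hx : x ∈ E)
    (o : Odd (orderOf x)) : x ∈ A := by
  have n4 := h.n4
  have e := card_mul_index (A.subgroupOf E)
  rw [Nat.card_congr (subgroupOfEquivOfLe le).toEquiv] at e
  have : (A.subgroupOf E).index = 1 ∨ (A.subgroupOf E).index = 2 := by
    generalize (A.subgroupOf E).index = j at e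
    rcases hA with a | a <;> rcases hE with b | b <;> rw [a, b] at e
    · exact .inl (Nat.eq_of_mul_eq_mul_left (by omega) (e.trans (mul_one n).symm))
    · exact .inr (Nat.eq_of_mul_eq_mul_left (by omega) (e.trans (mul_comm 2 n)))
    · rcases j with _ | j
      · omega
      · nlinarith
    · exact .inl (Nat.eq_of_mul_eq_mul_left (by omega) (e.trans (mul_one _).symm))
  rcases this with a | a
  · exact relIndex_eq_one.1 a hx
  have := mem_subgroupOf.1 (mul_self_mem_of_index_two a ⟨x, hx⟩)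
  refine zpowers_le.2 this ?_
  rw [show ((⟨x, hx⟩ * ⟨x, hx⟩ : E) : H) = x ^ 2 from (sq x).symm, mem_zpowers_pow_iff]
  exact Nat.coprime_two_left.2 o

/-- odd-order elements of `c u` lie in `c v` for `v ∈ c u` of coprime order -/
theorem cm {l : ℕ} {v : H} (hl : l.Prime) (d : l ∣ 2 * n) (o : orderOf u = l) (hv : v ∈ c u) (co : ¬ l ∣ orderOf v)
    (hx : x ∈ c u) (ox : Odd (orderOf x)) : x ∈ c v := by
  have co' : (orderOf u).Coprime (orderOf v) := o ▸ hl.coprime_iff_not_dvd.2 co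
  have em := h.mul hv co'
  have a := h.typ hl d (mul_ne_one co' (ne_one_of hl o)) (o ▸ orderOf_dvd_cardG (em ▸ ⟨h.self u, h.symm hv⟩))
  exact (em ▸ h.odd_mem (em ▸ inf_le_left) a (h.typ hl d (ne_one_of hl o) (o ▸ ord_dvd_c h.toCS u)) hx ox :
    x ∈ c u ⊓ c v).2

theorem u1 {r : ℕ} {w' : H} (hr : r.Prime) (r2 : r ≠ 2) (rn : r ∣ n) (o : orderOf w = r) (o' : orderOf w' = r)
    (hw : w' ∈ c w) : c w ≤ c w' := fun x hx => Gen2.mem_of_forall_pElt fun l hl v hv ⟨k, ov⟩ => by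
  have hv' : v ∈ c w := zpowers_le.2 hx hv
  have od := hr.odd_of_ne_two r2
  by_cases e : l = r
  swap
  · exact h.symm (h.cm hr (rn.mul_left 2) o hv' (fun d => e ((Nat.prime_dvd_prime_iff_eq hr hl).1
      (hr.dvd_of_dvd_pow (ov ▸ d))).symm) hw (o' ▸ od))
  subst e
  obtain ⟨t, ht, ot⟩ := Cauchy Nat.prime_two (show 2 ∣ #(c w) from
    (h.typ hr (rn.mul_left 2) (ne_one_of hr o) (o ▸ ord_dvd_c h.toCS w)).elim (fun e => e ▸ h.ev.two_dvd)
      fun e => e ▸ dvd_mul_right 2 n)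
  have nt : ¬ l ∣ orderOf t := fun d => r2 ((Nat.prime_dvd_prime_iff_eq hr Nat.prime_two).1 (ot ▸ d))
  have ov' : Odd (orderOf v) := ov ▸ od.pow
  exact h.cm Nat.prime_two (dvd_mul_right 2 n) ot (h.cm hr (rn.mul_left 2) o ht nt hw (o' ▸ od))
    (by rw [o']; exact od.not_two_dvd_nat) (h.cm hr (rn.mul_left 2) o ht nt hv' ov') ov'

theorem u2 {r : ℕ} {w' : H} (hr : r.Prime) (r2 : r ≠ 2) (rn : r ∣ n) (o : orderOf w = r) (o' : orderOf w' = r)
    (x1 : x ≠ 1) (hx : x ∈ c w) (hx' : x ∈ c w') : c w = c w' := by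
  have U : ∀ {w w' : H}, orderOf w = r → orderOf w' = r → w' ∈ c w → c w = c w' := fun o o' m =>
    le_antisymm (h.u1 hr r2 rn o o' m) (h.u1 hr r2 rn o' o (h.symm m))
  obtain ⟨u, hu, pu⟩ := Gen2.exists_prime_order_mem_zpowers x1
  have a : w ∈ c u := h.symm (zpowers_le.2 hx hu)
  have b : w' ∈ c u := h.symm (zpowers_le.2 hx' hu)
  by_cases e : orderOf u = r
  · exact (U e o a).symm.trans (U e o' b)
  have d : orderOf u ∣ 2 * n := (orderOf_dvd_cardG (h.symm a)).trans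
    ((h.typ hr (rn.mul_left 2) (ne_one_of hr o) (o ▸ ord_dvd_c h.toCS w)).elim (fun e => e ▸ dvd_mul_left n 2) fun e => e.dvd)
  exact U o o' (h.cm pu d rfl a (fun d => e ((Nat.prime_dvd_prime_iff_eq pu hr).1 (o ▸ d))) b (o' ▸ hr.odd_of_ne_two r2))

theorem part {r : ℕ} (hr : r.Prime) (r2 : r ≠ 2) (rn : r ∣ n) : ∃ S : Set (Subgroup H), (∃ A ∈ S, ∃ K ∈ S, A ≠ K) ∧
    (∀ A ∈ S, A ≠ ⊥) ∧ ∀ g : H, g ≠ 1 → ∃! A : Subgroup H, A ∈ S ∧ g ∈ A := by
  have m3 := h.m3
  have q7 := h.q7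
  have cw : ∀ {w : H}, orderOf w = r → #(c w) ∣ 2 * n := fun {w} o =>
    (h.typ hr (rn.mul_left 2) (ne_one_of hr o) (o ▸ ord_dvd_c h.toCS w)).elim (fun e => e ▸ dvd_mul_left n 2) fun e => e.dvd
  have ex : ∀ {x g : H} {A : Subgroup H}, #(c x) = q ∨ #(c x) = m → g ∈ c x → g ∈ A → #A ∣ 2 * n → g = 1 :=
    fun {x g A} e a b d => orderOf_eq_one_iff.1 (e.elim
      (fun e => Nat.eq_one_of_dvd_coprimes h.qn (e ▸ orderOf_dvd_cardG a) ((orderOf_dvd_cardG b).trans d))
      fun e => Nat.eq_one_of_dvd_coprimes h.m2 (e ▸ orderOf_dvd_cardG a) ((orderOf_dvd_cardG b).trans d))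
  refine ⟨{A | (∃ x ≠ 1, (#(c x) = q ∨ #(c x) = m) ∧ A = W c x) ∨ ∃ w, orderOf w = r ∧ A = c w}, ?_, ?_, fun g g1 => ?_⟩
  · obtain ⟨p, hp, dp⟩ := Nat.exists_prime_and_dvd (n := q) (by omega)
    obtain ⟨x, ox, -⟩ := h.k0 hp (h.card ▸ ((dp.mul_left 2).mul_right m).mul_right n)
    obtain ⟨w, ow, -⟩ := h.k0 hr (h.card ▸ rn.mul_left _)
    have x1 := ne_one_of hp ox
    have tx : #(c x) = q ∨ #(c x) = m := by
      have d : p ∣ #(c x) := ox ▸ ord_dvd_c h.toCS x
      rcases h.hi x x1 with f | f | f | f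
      exacts [.inl f, .inr f, (hp.one_lt.ne' (Nat.eq_one_of_dvd_coprimes h.qn dp ((f ▸ d).mul_left 2))).elim,
        (hp.one_lt.ne' (Nat.eq_one_of_dvd_coprimes h.qn dp (f ▸ d))).elim]
    exact ⟨_, .inl ⟨x, x1, tx, rfl⟩, _, .inr ⟨w, ow, rfl⟩, fun e => x1 (ex tx (h.self x) (e ▸ h.self_W x) (cw ow))⟩
  · rintro _ (⟨x, x1, -, rfl⟩ | ⟨w, ow, rfl⟩) e
    · exact x1 (mem_bot.1 (e ▸ h.self_W x))
    · exact ne_one_of hr ow (mem_bot.1 (e ▸ h.self w))
  by_cases tg : #(c g) = q ∨ #(c g) = m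
  · refine ⟨W c g, ⟨.inl ⟨g, g1, tg, rfl⟩, h.self_W g⟩, ?_⟩
    rintro _ ⟨⟨x, x1, tx, rfl⟩ | ⟨w, ow, rfl⟩, hg⟩
    · have le := h.mem_W.1 hg
      have d := card_dvd_of_le le
      have : c x = c g := eq_of_le_of_card_ge le (by
        rcases tx with a | a <;> rcases tg with b | b <;> rw [a, b] at d ⊢
        · have := Nat.eq_one_of_dvd_coprimes h.qm dvd_rfl d; omega
        · have := Nat.eq_one_of_dvd_coprimes h.qm d dvd_rfl; omega)
      rw [W, W, this]
    · exact (g1 (ex tg (h.self g) hg (cw ow))).elim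
  have tg' : #(c g) = n ∨ #(c g) = 2 * n := by
    rcases h.hi g g1 with f | f | f
    exacts [(tg (.inl f)).elim, (tg (.inr f)).elim, f]
  obtain ⟨w, hw, ow⟩ := Cauchy hr (show r ∣ #(c g) from tg'.elim (fun e => e ▸ rn) fun e => e ▸ rn.mul_left 2)
  refine ⟨c w, ⟨.inr ⟨w, ow, rfl⟩, h.symm hw⟩, ?_⟩
  rintro _ ⟨⟨x, x1, tx, rfl⟩ | ⟨w', ow', rfl⟩, hg⟩
  · exact (g1 (ex tx (h.W_le x hg) (h.symm hw) (cw ow))).elim
  · exact h.u2 hr r2 rn ow' ow g1 hg (h.symm hw)

end PD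

end Cfsg.Agent.TCS
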