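import Cfsg.Agent.FG.SpecL2
import Cfsg.Agent.D4S.F
import Cfsg.Agent.Sz.Part
import Cfsg.Agent.Sz.Models

/-! S3922, U1 (helper20): three pairwise separated elements in `PSL₂(q)`, `PGL₂(q)`, `Sz(q)`. -/

set_option autoImplicit false

namespace Cfsg.Agent.TCS
open Subgroup Cfsg.Agent.FG
open scoped MatrixGroups

/-- A copy of `TCS.Sp` (definitionally equal; avoids the import). -/
def Sq {H : Type*} [Group H] (x y : H) : Prop :=
  ∃ l : ℕ, l.Prime ∧ l ∣ orderOf y ∧ ¬ l ∣ orderOf x ∧ ∀ g : H, orderOf g ≠ orderOf x * l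

variable {G : Type*} [Group G]

theorem tri_sp (n : Fin 3 → ℕ) (hn : ∀ g : G, ∃ i, orderOf g ∣ n i)
    (cop : ∀ i j, i ≠ j → (n i).Coprime (n j)) {i j : Fin 3} (ij : i ≠ j) {x y : G}
    (hx : 1 < orderOf x ∧ orderOf x ∣ n i) (hy : 1 < orderOf y ∧ orderOf y ∣ n j) : Sq x y := by
  have pl := Nat.minFac_prime hy.1.ne'
  have dl := (Nat.minFac_dvd _).trans hy.2
  refine ⟨_, pl, Nat.minFac_dvd _, fun d => ?_, fun g e => ?_⟩
  · exact pl.ne_one (Nat.eq_one_of_dvd_coprimes (cop i j ij) (d.trans hx.2) dl)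
  · obtain ⟨t, ht⟩ := hn g
    rw [e] at ht
    by_cases c : i = t
    · subst c
      exact pl.ne_one (Nat.eq_one_of_dvd_coprimes (cop i j ij) ((dvd_mul_left _ _).trans ht) dl)
    · exact hx.1.ne' (Nat.eq_one_of_dvd_coprimes (cop i t c) hx.2 ((dvd_mul_right _ _).trans ht))

theorem tri_of (a b c : ℕ) (hn : ∀ g : G, orderOf g ∣ a ∨ orderOf g ∣ b ∨ orderOf g ∣ c)
    (ab : a.Coprime b) (ac : a.Coprime c) (bc : b.Coprime c) (ex : ∃ x : G, 1 < orderOf x ∧ orderOf x ∣ a)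
    (ey : ∃ x : G, 1 < orderOf x ∧ orderOf x ∣ b) (ez : ∃ x : G, 1 < orderOf x ∧ orderOf x ∣ c) :
    ∃ x y z : G, (Sq x y ∨ Sq y x) ∧ (Sq x z ∨ Sq z x) ∧ (Sq y z ∨ Sq z y) := by
  obtain ⟨x, hx⟩ := ex
  obtain ⟨y, hy⟩ := ey
  obtain ⟨z, hz⟩ := ez
  have hn' : ∀ g : G, ∃ i, orderOf g ∣ ![a, b, c] i := fun g => by
    rcases hn g with d | d | d
    exacts [⟨0, d⟩, ⟨1, d⟩, ⟨2, d⟩]
  have cop : ∀ i j, i ≠ j → (![a, b, c] i).Coprime (![a, b, c] j) := fun i j ij => by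
    fin_cases i <;> fin_cases j <;>
      first | exact absurd rfl ij | exact ab | exact ac | exact bc | exact ab.symm | exact ac.symm | exact bc.symm
  exact ⟨x, y, z, .inl (tri_sp _ hn' cop (i := 0) (j := 1) (by decide) hx hy),
    .inl (tri_sp _ hn' cop (i := 0) (j := 2) (by decide) hx hz),
    .inl (tri_sp _ hn' cop (i := 1) (j := 2) (by decide) hy hz)⟩

theorem tri_char (F : Type) [Field F] [Fintype F] :
    ∃ p : ℕ, ∃ (_ : Fact p.Prime) (_ : CharP F p), p ∣ Fintype.card F := by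
  obtain ⟨p, hc, n, hp, e⟩ := FiniteField.card' F
  exact ⟨p, ⟨hp⟩, hc, e ▸ dvd_pow_self p n.ne_zero⟩

theorem tri_psl {F : Type} [Field F] [Fintype F] (h4 : 4 ≤ Fintype.card F) (e : G ≃* PSL(2, F)) :
    ∃ x y z : G, (Sq x y ∨ Sq y x) ∧ (Sq x z ∨ Sq z x) ∧ (Sq y z ∨ Sq z y) := by
  obtain ⟨p, hp, _, pq⟩ := tri_char F
  have s := (spec_congr e).trans (spec_PSL2 p)
  rw [Nat.card_eq_fintype_card] at s
  generalize Fintype.card F = q at *
  obtain ⟨a, b, ea, eb, a1, b1, da, db, ab⟩ : ∃ a b, (q - 1) / Nat.gcd 2 (q - 1) = a ∧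
      (q + 1) / Nat.gcd 2 (q - 1) = b ∧ 1 < a ∧ 1 < b ∧ a ∣ q - 1 ∧ b ∣ q + 1 ∧ a.Coprime b := by
    rcases Nat.even_or_odd' q with ⟨k, rfl | rfl⟩
    · have g : Nat.gcd 2 (2 * k - 1) = 1 := Nat.coprime_two_left.2 ⟨k - 1, by omega⟩
      refine ⟨2 * k - 1, 2 * k + 1, by rw [g, Nat.div_one], by rw [g, Nat.div_one], by omega, by omega, dvd_rfl,
        dvd_rfl, ?_⟩
      rw [show 2 * k + 1 = 2 + (2 * k - 1) by omega, Nat.coprime_add_self_right]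
      exact Nat.Coprime.symm g
    · have g : Nat.gcd 2 (2 * k + 1 - 1) = 2 := Nat.gcd_eq_left ⟨k, by omega⟩
      refine ⟨k, k + 1, by rw [g]; omega, by rw [g]; omega, by omega, by omega, ⟨2, by omega⟩, ⟨2, by omega⟩, ?_⟩
      simp
  rw [ea, eb] at s
  have pa : p.Coprime a := (hp.out.coprime_iff_not_dvd).2 fun d => hp.out.ne_one (Nat.dvd_one.1 (by
    have := Nat.dvd_sub pq (d.trans da)
    rwa [show q - (q - 1) = 1 by omega] at this))
  have pb : p.Coprime b := (hp.out.coprime_iff_not_dvd).2 fun d => hp.out.ne_one (Nat.dvd_one.1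
    ((Nat.dvd_add_right pq).1 (d.trans db)))
  have k : ∀ m, 1 < m → m ∈ Spec G → ∃ x : G, 1 < orderOf x ∧ orderOf x ∣ m := fun m h ⟨x, e⟩ =>
    ⟨x, e ▸ h, e ▸ dvd_rfl⟩
  exact tri_of p a b (fun g => s.le ⟨g, rfl⟩) pa pb ab (k _ hp.out.one_lt (s.ge (.inl dvd_rfl)))
    (k _ a1 (s.ge (.inr (.inl dvd_rfl)))) (k _ b1 (s.ge (.inr (.inr dvd_rfl))))

theorem tri_pgl {F : Type} [Field F] [Fintype F] (h5 : 5 ≤ Fintype.card F) (ho : Odd (Fintype.card F))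
    (e : G ≃* PGL(2, F)) :
    ∃ x y z : G, (Sq x y ∨ Sq y x) ∧ (Sq x z ∨ Sq z x) ∧ (Sq y z ∨ Sq z y) := by
  obtain ⟨p, hp, _, pq⟩ := tri_char F
  have s : ∀ m, m ∈ Spec G ↔ _ := fun m => (Set.ext_iff.1 (spec_congr e) m).trans (D4S.mem_spec (F := F) p)
  generalize Fintype.card F = q at *
  obtain ⟨k, rfl⟩ := ho
  rw [show 2 * k + 1 - 1 = 2 * k from rfl] at s
  have p2 : ¬ 2 ∣ p := fun d => by have := d.trans pq; omega
  have pa : ¬ p ∣ 2 * k := fun d => hp.out.ne_one (Nat.dvd_one.1 ((Nat.dvd_add_right d).1 pq))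
  have pb : ¬ p ∣ 2 * k + 1 + 1 := fun d => hp.out.ne_one (Nat.dvd_one.1 ((Nat.dvd_add_right pq).1 d))
  obtain ⟨x, hx⟩ := (s p).2 (.inl dvd_rfl)
  obtain ⟨y, hy⟩ := (s _).2 (.inr (.inl dvd_rfl))
  obtain ⟨z, hz⟩ := (s _).2 (.inr (.inr dvd_rfl))
  have k1 : ∀ w : G, 2 ∣ orderOf w → Sq x w := fun w d => ⟨2, Nat.prime_two, d, hx ▸ p2, fun g e => by
    rw [hx] at e
    rcases (s _).1 ⟨g, e⟩ with d | d | d
    exacts [p2 ((dvd_mul_left _ _).trans d), pa ((dvd_mul_right _ _).trans d), pb ((dvd_mul_right _ _).trans d)]⟩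
  have k2 : ∀ (u w : G) (c : ℕ), Odd c → 1 < c → orderOf w = 2 * c → 2 ∣ orderOf u → 2 * k ≤ orderOf u →
      (orderOf u + 2 = 2 * c ∨ orderOf u = 2 * c + 2) → Sq u w := fun u w c oc c1 ew du lu eu => by
    have pl := Nat.minFac_prime c1.ne'
    have dl := Nat.minFac_dvd c
    have l2 : c.minFac ≠ 2 := fun e => by rw [e] at dl; exact (Nat.not_even_iff_odd.2 oc) (even_iff_two_dvd.2 dl)
    have l3 : 3 ≤ c.minFac := by have := pl.two_le; omega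
    refine ⟨_, pl, ew ▸ dl.trans (dvd_mul_left _ _), fun d => l2 ((Nat.prime_dvd_prime_iff_eq pl Nat.prime_two).1 ?_),
      fun g e => ?_⟩
    · have d' : c.minFac ∣ 2 * c := dl.trans (dvd_mul_left _ _)
      rcases eu with e | e
      · exact (Nat.dvd_add_right d).1 (e ▸ d')
      · exact (Nat.dvd_add_right d').1 (e ▸ d)
    · rcases (s _).1 ⟨g, e⟩ with d | d | d
      · exact p2 ((du.trans (dvd_mul_right _ _)).trans d)
      · have := Nat.le_of_dvd (by omega) d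
        nlinarith
      · have := Nat.le_of_dvd (by omega) d
        nlinarith
  refine ⟨x, y, z, .inl (k1 y (hy ▸ dvd_mul_right _ _)), .inl (k1 z (hz ▸ ⟨k + 1, by ring⟩)), ?_⟩
  rcases Nat.even_or_odd k with o | o
  · exact .inl (k2 y z (k + 1) o.add_one (by omega) (by omega) (by omega) (by omega) (by omega))
  · exact .inr (k2 z y k o (by omega) hy (by omega) (by omega) (by omega))

theorem tri_sz [Finite G] (h : Cfsg.Lie.IsoSuzuki G) :
    ∃ x y z : G, (Sq x y ∨ Sq y x) ∧ (Sq x z ∨ Sq z x) ∧ (Sq y z ∨ Sq z y) := by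
  obtain ⟨F, _, _, m, hm, hF, ⟨e⟩⟩ := h
  let _ := Sz.titsOfCard hm hF
  let _ := Sz.lieRep (Sz.titsOfCard_θ hm hF)
  have h4 := Sz.four_le_card F
  have cG := (Nat.card_congr e.toEquiv).trans (Sz.card_G (F := F))
  have cB := Sz.coprime_card_B F
  have k : ∀ n, 1 < n → n ∣ Nat.card G → ∃ x : G, 1 < orderOf x ∧ orderOf x ∣ n := fun n h d => by
    have := Fact.mk (Nat.minFac_prime h.ne')
    obtain ⟨x, hx⟩ := exists_prime_orderOf_dvd_card' _ ((Nat.minFac_dvd n).trans d)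
    exact ⟨x, hx ▸ this.out.one_lt, hx ▸ Nat.minFac_dvd n⟩
  refine tri_of (Nat.card F ^ 2) (Nat.card F - 1) (Nat.card F ^ 2 + 1) (fun g => ?_) (Sz.coprime_sq_sub_one F)
    (by simp) (cB.coprime_mul_left_right).symm (k _ (by nlinarith) (cG ▸ ⟨_, mul_assoc _ _ _⟩))
    (k _ (by omega) (cG ▸ dvd_mul_left _ _)) (k _ (by nlinarith) (cG ▸ (dvd_mul_left _ _).mul_right _))
  obtain ⟨A, hA, m⟩ := Sz.exists_part F (e g)
  have d := A.orderOf_dvd_natCard m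
  rw [MulEquiv.orderOf_eq] at d
  rcases hA.card_cases with c | c | c
  exacts [.inl (c ▸ d), .inr (.inl (c ▸ d)), .inr (.inr (d.trans c))]

theorem tri {G : Type*} [Group G] [Finite G]
    (h : (∃ (F : Type) (_ : Field F) (_ : Fintype F), 4 ≤ Fintype.card F ∧
        Nonempty (G ≃* Matrix.ProjectiveSpecialLinearGroup (Fin 2) F)) ∨
      (∃ (F : Type) (_ : Field F) (_ : Fintype F), 5 ≤ Fintype.card F ∧ Odd (Fintype.card F) ∧
        Nonempty (G ≃* (GL (Fin 2) F ⧸ Subgroup.center (GL (Fin 2) F)))) ∨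
      Cfsg.Lie.IsoSuzuki G) :
    ∃ x y z : G, (Sq x y ∨ Sq y x) ∧ (Sq x z ∨ Sq z x) ∧ (Sq y z ∨ Sq z y) := by
  rcases h with ⟨F, _, _, h4, ⟨e⟩⟩ | ⟨F, _, _, h5, ho, ⟨e⟩⟩ | h
  exacts [tri_psl h4 e, tri_pgl h5 ho e, tri_sz h]

end Cfsg.Agent.TCS
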