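import Cfsg.Agent.TCS.PA
import Cfsg.Agent.Transfer.Hall
import Cfsg.Agent.AB.PSL2

/-! `split_odd`: if `G / Z(G) ≅ PSL₂(q)` (`q` odd) carries the class sizes of `PSL₂(q)`, then `G' ⊓ Z(G) = 1`. (helper6) -/

set_option autoImplicit false
set_option linter.unusedSectionVars false
set_option linter.unusedVariables false

namespace Cfsg.Agent.TCS
open Subgroup Cfsg.Agent.BG Cfsg.Agent.GW Cfsg.Agent.Classical
open scoped MatrixGroups commutatorElement

theorem v6_bsw {X Y : Type*} [Group X] [Group Y] {t s : X} {K : Subgroup X} (h : BSW t s K) (e : Y ≃* X) :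
    BSW (e.symm t) (e.symm s) (K.comap e.toMonoidHom) where
  ht := (e.symm.orderOf_eq t).trans h.ht
  hs := (e.symm.orderOf_eq s).trans h.hs
  comm := ⟨⟨fun a b => Subtype.ext (e.injective (by
    have := congrArg Subtype.val (h.comm.1.1 ⟨e a.1, a.2⟩ ⟨e b.1, b.2⟩)
    rw [coe_mul, coe_mul, map_mul, map_mul]
    exact this))⟩⟩
  tK := by simpa using h.tK
  sK := by simpa using h.sK
  mem g := by
    have := h.mem (e g)
    rw [mem_cent1] at this ⊢
    simp only [mem_comap, MulEquiv.coe_toMonoidHom, map_mul, MulEquiv.apply_symm_apply]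
    rw [← this, ← e.injective.eq_iff]; simp
  inv x hx := e.injective (by simpa using h.inv (e x) hx)
  uniq x hx xx := (h.uniq (e x) hx (by rw [← map_mul, xx, map_one])).imp (fun r => by simpa using r)
    fun r => by rw [← r]; simp
  TI g x hx x1 hg := by
    have := h.TI (e g) (e x) hx (by simpa using x1) (by simpa using hg)
    rw [mem_cent1] at this ⊢
    exact e.injective (by simpa using this)
  cls x hx := by
    simpa using e.symm.toMonoidHom.map_isConj (h.cls (e x) ((e.orderOf_eq x).trans hx))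

theorem v6_comm {F : Type*} [Field F] [Finite F] {x a b : PSL(2, F)} (x1 : x ≠ 1) (o : Odd (orderOf x))
    (ha : a ∈ C1[x]) (hb : b ∈ C1[x]) : a * b = b * a := by
  obtain ⟨x, rfl⟩ := pslMk_surjective x
  obtain ⟨a, rfl⟩ := pslMk_surjective a
  obtain ⟨b, rfl⟩ := pslMk_surjective b
  have tr : x.1.trace ≠ 0 := fun e => x1 (orderOf_eq_one_iff.1 (Nat.eq_one_of_dvd_coprimes
    (show Nat.Coprime (orderOf (pslMk F x)) (2 ^ 2) from (Nat.coprime_two_right.2 o).pow_right 2) dvd_rfl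
    (orderOf_dvd_of_pow_eq_one (by rw [← map_pow, show 2 ^ 2 = 4 from rfl, sl_pow_four e, map_one]))))
  have E := comap_centralizer_pslMk (g := x) (.inl tr)
  have a' : a * x = x * a := mem_centralizer_singleton_iff.1 (E ▸ mem_comap.2 ha)
  have b' : b * x = x * b := mem_centralizer_singleton_iff.1 (E ▸ mem_comap.2 hb)
  rw [← map_mul, ← map_mul]
  congr 1
  exact Subtype.ext (commute_of_commute (m := x.1) (fun s => x1 (pslMk_eq_one_iff.2 s)) (congrArg Subtype.val a')
    (congrArg Subtype.val b'))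

theorem v6_norm {H : Type*} [Group H] [Finite H] {X : Subgroup H} {b : H} (hb : b ∈ N[X])
    (co : (orderOf b).Coprime X.index) : b ∈ X := by
  have : (X.subgroupOf N[X]).Normal := normal_in_normalizer
  have e : ((⟨b, hb⟩ : N[X]) : N[X] ⧸ X.subgroupOf N[X]) = 1 := orderOf_eq_one_iff.1 (Nat.eq_one_of_dvd_coprimes co
    (by rw [← Subgroup.orderOf_mk b hb]; exact orderOf_map_dvd (QuotientGroup.mk' _) _)
    ((_root_.orderOf_dvd_natCard _).trans (relIndex_dvd_index_of_le le_normalizer)))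
  exact mem_subgroupOf.1 ((QuotientGroup.eq_one_iff (N := X.subgroupOf N[X]) (⟨b, hb⟩ : N[X])).1 e)

section
variable {H : Type*} [Group H] [Finite H] {c : H → Subgroup H} {q m n : ℕ} (h : PD c q m n)
include h

theorem PD.v6_idx {x : H} {d e : ℕ} (hd : #(c x) = d) (he : 2 * q * m * n = d * e) : (c x).index = e := by
  have := (c x).card_mul_index
  rw [h.card, he, hd] at this
  exact Nat.eq_of_mul_eq_mul_left (hd ▸ Nat.card_pos) this

theorem PD.v6_beta {t s : H} {K : Subgroup H} (B : BSW t s K) : c t = C1[t] ∧ #(c t) = 2 * n := by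
  have oq : q.Coprime 2 := h.qn.coprime_dvd_right (dvd_mul_right _ _)
  have om : m.Coprime 2 := h.m2.coprime_dvd_right (dvd_mul_right _ _)
  have n0 : 0 < n := by have := h.n4; omega
  have inv : ∀ y, orderOf y = 2 → #(c y) = 2 * n → #(c t) = 2 * n := fun y o e => by
    obtain ⟨g, rfl⟩ := isConj_iff.1 (B.cls y o)
    rwa [h.cjc, card_cj] at e
  have ct : #(c t) = 2 * n := by
    obtain ⟨y, y1, e⟩ := h.eβ
    obtain ⟨u, hu, o⟩ := Cauchy Nat.prime_two (e ▸ dvd_mul_right 2 n)
    obtain ⟨g, rfl⟩ := isConj_iff.1 (B.cls u o)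
    have e' : #(c (g⁻¹ * y * g⁻¹⁻¹)) = 2 * n := by rw [h.cjc, card_cj, e]
    have m' : t ∈ c (g⁻¹ * y * g⁻¹⁻¹) := by simpa [mul_assoc] using h.conj g⁻¹ hu
    have y1' : g⁻¹ * y * g⁻¹⁻¹ ≠ 1 := fun r => y1 (by
      calc y = g * (g⁻¹ * y * g⁻¹⁻¹) * g⁻¹ := by group
        _ = 1 := by rw [r]; group)
    generalize g⁻¹ * y * g⁻¹⁻¹ = y at e' m' y1'
    rcases (B.mem y).1 (h.le_C t (h.symm m')) with k | k
    swap
    · exact inv y (B.invol k) e'
    by_cases yt : y = t
    · exact yt ▸ e'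
    exfalso
    have le : c y ≤ K := fun g hg => by
      have e1 : g * y * g⁻¹ = y := by rw [mem_cent1.1 (h.le_C y hg), mul_inv_cancel_right]
      refine ((B.mem g).1 (B.TI g y k y1' (e1.symm ▸ k))).resolve_right fun r => ?_
      have := B.inverts r k
      rw [e1] at this
      exact (B.uniq y k (by nth_rw 2 [this]; simp)).elim y1' yt
    have d1 : 2 * (2 * n) ∣ 2 * q * m * n := by
      rw [← h.card, ← e']
      exact (Nat.mul_dvd_mul_left 2 (card_dvd_of_le le)).trans (B.card_H ▸ card_subgroup_dvd_card _)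
    have d2 : 2 ∣ q * m := (Nat.mul_dvd_mul_iff_left (show 0 < 2 * n by omega)).1 (by
      rwa [show 2 * n * 2 = 2 * (2 * n) by ring, show 2 * n * (q * m) = 2 * q * m * n by ring])
    exact absurd (Nat.eq_one_of_dvd_coprimes (oq.mul_left om) d2 dvd_rfl) (by decide)
  refine ⟨le_antisymm (h.le_C t) fun g hg => Gen2.mem_of_forall_pElt fun p hp y hy ⟨k, o⟩ => ?_, ct⟩
  have yC : y ∈ C1[t] := zpowers_le.2 hg hy
  by_cases p2 : p = 2
  · refine v6_norm (h.C_le_N t yC) ?_
    rw [h.v6_idx ct (e := q * m) (by ring), o, p2]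
    exact (oq.mul_left om).symm.pow_left _
  · refine h.cop (mem_cent1.1 yC).symm ?_
    rw [B.ht, o]
    exact ((Nat.coprime_primes Nat.prime_two hp).2 (Ne.symm p2)).pow_right _

theorem PD.v6_alpha {t s : H} {K : Subgroup H} (B : BSW t s K) {a : H} (ha : a ∈ K) (a1 : a ≠ 1) : K ≤ c a := by
  obtain ⟨ec, ct⟩ := h.v6_beta B
  by_cases at' : a = t
  · exact at' ▸ ec ▸ B.le
  have cK : #K = n := by have := B.card_H; rw [← ec, ct] at this; omega
  have le : c a ≤ K := fun g hg => by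
    have e1 : g * a * g⁻¹ = a := by rw [mem_cent1.1 (h.le_C a hg), mul_inv_cancel_right]
    refine ((B.mem g).1 (B.TI g a ha a1 (e1.symm ▸ ha))).resolve_right fun r => ?_
    have := B.inverts r ha
    rw [e1] at this
    exact (B.uniq a ha (by nth_rw 2 [this]; simp)).elim a1 at'
  have d := card_dvd_of_le le
  rw [cK] at d
  have := h.q7
  have := h.m3
  have := h.n4
  rcases h.hi a a1 with e | e | e | e <;> rw [e] at d
  · have := Nat.eq_one_of_dvd_coprimes h.qn dvd_rfl (d.mul_left 2); omega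
  · have := Nat.eq_one_of_dvd_coprimes h.mn dvd_rfl d; omega
  · exact (eq_of_le_of_card_ge le (by rw [cK, e])).ge
  · have := Nat.le_of_dvd (by omega) d; omega

theorem PD.v6_odd (A : ∀ {x a b : H}, x ≠ 1 → Odd (orderOf x) → a ∈ C1[x] → b ∈ C1[x] → a * b = b * a)
    {d e : ℕ} (d1 : 1 < d) (o : d.Coprime 2) (he : 2 * q * m * n = d * e) (co : d.Coprime e)
    (hd : ∀ x ≠ 1, #(c x) = d ∨ (#(c x)).Coprime d) :
    ∃ x, (c x).index = e ∧ ∀ a ∈ c x, a ≠ 1 → c x ≤ c a := by
  have key : ∀ x ≠ 1, orderOf x ∣ d → #(c x) = d := fun x x1 hx => (hd x x1).resolve_right fun r =>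
    x1 (orderOf_eq_one_iff.1 (Nat.eq_one_of_dvd_coprimes r (orderOf_dvd_cardG (h.self x)) hx))
  have := Fact.mk (Nat.minFac_prime d1.ne')
  obtain ⟨x, hx⟩ := exists_prime_orderOf_dvd_card' (G := H) d.minFac
    (d.minFac_dvd.trans ⟨e, by rw [h.card, he]⟩)
  have x1 : x ≠ 1 := FG.Ito.ne_one_of this.out hx
  have cx := key x x1 (hx ▸ d.minFac_dvd)
  refine ⟨x, h.v6_idx cx he, fun a ha a1 b hb => v6_norm (h.C_le_N a (mem_cent1.2 (A x1 ?_ (h.le_C x hb)
    (h.le_C x ha)))) ?_⟩
  · exact Nat.coprime_two_right.1 (o.coprime_dvd_left (hx ▸ d.minFac_dvd))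
  · rw [h.v6_idx (key a a1 (cx ▸ orderOf_dvd_cardG ha)) he]
    exact co.coprime_dvd_left (cx ▸ orderOf_dvd_cardG hb)

end

theorem v6_dih {G : Type*} [Group G] {A M : Subgroup G} {s z : G} (hA : ∀ a ∈ A, ∀ b ∈ A, a * b = b * a)
    (hs : ∀ a ∈ A, s * a * s⁻¹ ∈ A) (hM : ∀ g ∈ M, g ∈ A ∨ ∃ a ∈ A, g = a * s) (hz : z ∈ ⁅M, M⁆) :
    ∃ a ∈ A, z = a * (s * a * s⁻¹)⁻¹ := by
  let D : Subgroup G :=
    { carrier := {z | ∃ a ∈ A, z = a * (s * a * s⁻¹)⁻¹}
      one_mem' := ⟨1, one_mem _, by simp⟩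
      mul_mem' := by
        rintro _ _ ⟨a, ha, rfl⟩ ⟨b, hb, rfl⟩
        refine ⟨a * b, mul_mem ha hb, ?_⟩
        rw [mul_assoc a, hA _ (inv_mem (hs a ha)) _ (mul_mem hb (inv_mem (hs b hb)))]
        group
      inv_mem' := by
        rintro _ ⟨a, ha, rfl⟩
        refine ⟨a⁻¹, inv_mem ha, ?_⟩
        rw [mul_inv_rev, inv_inv, hA _ (hs a ha) _ (inv_mem ha)]
        group }
  have k : ∀ a ∈ A, ∀ b ∈ A, ⁅a, b * s⁆ ∈ D := fun a ha b hb => ⟨a, ha, by
    have e1 := hA _ hb _ (inv_mem (hs a ha))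
    calc ⁅a, b * s⁆ = a * (b * (s * a * s⁻¹)⁻¹) * b⁻¹ := by rw [commutatorElement_def]; group
      _ = _ := by rw [e1]; group⟩
  refine (commutator_le.2 fun g hg g' hg' => ?_ : ⁅M, M⁆ ≤ D) hz
  rcases hM g hg with a | ⟨a, ha, rfl⟩ <;> rcases hM g' hg' with b | ⟨b, hb, rfl⟩
  · rw [commutatorElement_eq_one_iff_mul_comm.2 (hA _ a _ b)]; exact one_mem _
  · exact k _ a _ hb
  · rw [← commutatorElement_inv]; exact inv_mem (k _ b _ ha)
  · refine ⟨a * b⁻¹, mul_mem ha (inv_mem hb), ?_⟩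
    have e1 := hA _ (mul_mem (hs b hb) (inv_mem (hs a ha))) _ (inv_mem hb)
    calc ⁅a * s, b * s⁆ = a * ((s * b * s⁻¹) * (s * a * s⁻¹)⁻¹ * b⁻¹) := by rw [commutatorElement_def]; group
      _ = _ := by rw [e1]; group

theorem split_odd {G : Type*} [Group G] [Finite G] {F : Type*} [Field F] [Fintype F] {m n : ℕ}
    (hodd : ¬ 2 ∣ Fintype.card F) (h : PD (qc (fun x : G => C1[x]) (center G)) (Fintype.card F) m n)
    (e : G ⧸ center G ≃* Matrix.ProjectiveSpecialLinearGroup (Fin 2) F) : commutator G ⊓ center G = ⊥ := by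
  have hZ : ∀ z ∈ center G, ∀ x : G, x ∈ C1[z] := fun z hz x =>
    mem_centralizer_singleton_iff.2 (mem_center_iff.1 hz x)
  have cm : ∀ a b : G, ((a : G ⧸ center G) ≠ 1 → (b : G ⧸ center G) ∈ qc (fun x : G => C1[x]) (center G) a) →
      a * b = b * a := fun a b r => by
    by_cases a1 : (a : G ⧸ center G) = 1
    · exact (mem_center_iff.1 ((QuotientGroup.eq_one_iff a).1 a1) b).symm
    · exact (mem_cent1.1 (((cs_cent G).mem_qc hZ).1 (r a1))).symm
  have ix : ∀ X : Subgroup (G ⧸ center G), (X.comap (QuotientGroup.mk' _)).index = X.index := fun X =>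
    index_comap_of_surjective _ (QuotientGroup.mk'_surjective _)
  generalize hq : Fintype.card F = q at h hodd
  have A : ∀ {x a b : G ⧸ center G}, x ≠ 1 → Odd (orderOf x) → a ∈ C1[x] → b ∈ C1[x] → a * b = b * a :=
    fun {x a b} x1 o ha hb => e.injective (by
      rw [map_mul, map_mul]
      refine v6_comm (x := e x) (by simpa using x1) (by rwa [e.orderOf_eq]) (mem_cent1.2 ?_) (mem_cent1.2 ?_)
      · rw [← map_mul, mem_cent1.1 ha, map_mul]
      · rw [← map_mul, mem_cent1.1 hb, map_mul])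
  refine eq_bot_iff.2 fun z ⟨hz', hz⟩ => ?_
  have odd : ∀ {d f : ℕ}, 1 < d → d.Coprime 2 → 2 * q * m * n = d * f → d.Coprime f →
      (∀ x ≠ 1, #(qc (fun x : G => C1[x]) (center G) x) = d ∨ (#(qc (fun x : G => C1[x]) (center G) x)).Coprime d) →
      orderOf z ∣ f := fun {d f} d1 o he co hd => by
    obtain ⟨x, i, hx⟩ := h.v6_odd A d1 o he co hd
    have := Transfer.pow_index_mem_commutator_of_mem_center
      ((qc (fun x : G => C1[x]) (center G) x).comap (QuotientGroup.mk' _)) hz hz'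
    rw [ix, i] at this
    refine orderOf_dvd_of_pow_eq_one (mem_bot.1 ((commutator_le.2 fun a ha b hb => ?_ : _ ≤ ⊥) this))
    exact mem_bot.2 (commutatorElement_eq_one_iff_mul_comm.2 (cm a b fun a1 => hx _ ha a1 hb))
  have oq : q.Coprime 2 := h.qn.coprime_dvd_right (dvd_mul_right _ _)
  have om : m.Coprime 2 := h.m2.coprime_dvd_right (dvd_mul_right _ _)
  have qn : q.Coprime n := h.qn.coprime_dvd_right (dvd_mul_left _ _)
  have d1 : orderOf z ∣ m * (2 * n) := odd (d := q) (by have := h.q7; omega) oq (by ring) (h.qm.mul_right h.qn)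
    fun x x1 => (h.hi x x1).imp_right fun r => by
      rcases r with r | r | r <;> rw [r]
      exacts [h.qm.symm, qn.symm, h.qn.symm]
  have d2 : orderOf z ∣ q * (2 * n) := odd (d := m) (by have := h.m3; omega) om (by ring) (h.qm.symm.mul_right h.m2)
    fun x x1 => by
      rcases h.hi x x1 with r | r | r | r <;> rw [r]
      exacts [.inr h.qm, .inl rfl, .inr h.mn.symm, .inr h.m2.symm]
  have d3 : orderOf z ∣ q * m := by
    obtain ⟨u, v, K, B⟩ := AB.psl_bsw (F := F) (two_ne_zero_iff_odd.2 (by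
      rw [Nat.card_eq_fintype_card, hq]; exact Nat.coprime_two_right.1 oq))
    replace B := v6_bsw B e
    generalize e.symm u = t at B
    generalize e.symm v = s at B
    generalize K.comap e.toMonoidHom = K at B
    induction s using QuotientGroup.induction_on
    rename_i s
    obtain ⟨ec, ct⟩ := h.v6_beta B
    have := Transfer.pow_index_mem_commutator_of_mem_center
      ((qc (fun x : G => C1[x]) (center G) t).comap (QuotientGroup.mk' _)) hz hz'
    rw [ix, h.v6_idx ct (e := q * m) (by ring), ec] at this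
    obtain ⟨a, ha, ea⟩ := v6_dih (A := K.comap (QuotientGroup.mk' _)) (s := s)
      (fun a ha b hb => cm a b fun a1 => h.v6_alpha B ha a1 hb)
      (fun a ha => by
        rw [mem_comap, map_mul, map_mul, map_inv]
        exact (B.inv _ ha).symm ▸ inv_mem ha)
      (fun g hg => ((B.mem _).1 hg).imp_right fun r => ⟨g * s⁻¹, by
        rw [mem_comap, map_mul, map_inv]
        exact (Invol.inv_eq_of B.hs).symm ▸ r, by group⟩) this
    have e1 : (a : G ⧸ center G) * a = 1 := by
      have := (QuotientGroup.eq_one_iff _).2 (ea ▸ pow_mem hz (q * m))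
      rw [QuotientGroup.mk_mul, QuotientGroup.mk_inv, QuotientGroup.mk_mul, QuotientGroup.mk_mul, QuotientGroup.mk_inv,
        B.inv (a : G ⧸ center G) ha, inv_inv] at this
      exact this
    have e2 : a * s = s * a := cm a s fun a1 => by
      have e3 : (a : G ⧸ center G) = t := (B.uniq _ ha e1).resolve_left a1
      rw [e3, ec]
      exact (B.mem _).2 (.inr (by rw [B.ss]; exact one_mem _))
    refine orderOf_dvd_of_pow_eq_one ?_
    rw [ea, ← e2]; group
  refine mem_bot.2 (orderOf_eq_one_iff.1 ?_)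
  have c1 : (orderOf z).Coprime (2 * n) := (h.qn.mul_left h.m2).coprime_dvd_left d3
  exact Nat.eq_one_of_dvd_coprimes h.qm (c1.dvd_of_dvd_mul_right d2) (c1.dvd_of_dvd_mul_right d1)

end Cfsg.Agent.TCS
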