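import Cfsg.Agent.TCS.C
import Cfsg.Agent.FG.Ito4
import Cfsg.Agent.FG.PrimeGraph
import Cfsg.Agent.Classical.PSL2Four
import Cfsg.Agent.Classical.GL2Class
import Cfsg.Agent.Classical.FieldCongr
import Cfsg.Agent.S0089

/-! Groups with the class sizes of `PSL₂(q)`, `q` even. -/

set_option autoImplicit false

namespace Cfsg.Agent.TCS
open Subgroup Cfsg.Agent.BG Cfsg.Agent.FG.Ito

open Cfsg.Agent.Classical in
theorem v6b_sl {F : Type*} [Field F] [Finite F] (h2 : (2 : F) = 0) {u : ℕ} (hu : Nat.card F = u + 1) (u3 : 3 ≤ u) :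
    Set.range (fun x : Matrix.SpecialLinearGroup (Fin 2) F => (centralizer ({x} : Set _)).index) =
      {1, u * (u + 2), (u + 1) * u, (u + 1) * (u + 2)} := by
  have := Fintype.ofFinite F
  have : CharP F 2 := CharTwo.of_one_ne_zero_of_two_eq_zero one_ne_zero h2
  have ev : Even (Nat.card F) := two_eq_zero_iff_even.1 h2
  have e1 : Nat.card F ^ 2 - 1 = u * (u + 2) := by rw [hu]; exact Nat.sub_eq_of_eq_add (by ring)
  have e2 : Nat.card F * (Nat.card F - 1) = (u + 1) * u := by rw [hu]; rfl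
  have e3 : Nat.card F * (Nat.card F + 1) = (u + 1) * (u + 2) := by rw [hu]
  have hu' : ∀ b : F, b ≠ 0 → (centralizer ({uSL b} : Set _)).index = u * (u + 2) := fun b hb => by
    rw [← e1, ← index_centralizer_uSL hb, gcd_two_pred_of_even ev (by omega), one_mul]
  have ng : ∀ g : Matrix.SpecialLinearGroup (Fin 2) F, -g = g := fun g => by
    ext i j; simp [CharTwo.neg_eq]
  refine Set.Subset.antisymm ?_ ?_
  · rintro _ ⟨x, rfl⟩
    by_cases x1 : x = 1
    · exact .inl (x1 ▸ Gen2.cs_one)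
    by_cases d : disc x.1 = 0
    · obtain ⟨b, e⟩ := sl_isConj_uSL_of_disc d
      rw [ng, or_self] at e
      refine .inr (.inl ((Gen2.cs_of_isConj e).trans (hu' b ?_)))
      rintro rfl
      exact x1 (isConj_one_left.1 (uSL_zero (F := F) ▸ e))
    by_cases n : NoEig x.1
    exacts [.inr (.inr (.inl ((index_centralizer_noEig n).trans e2))),
      .inr (.inr (.inr ((index_centralizer_split d n).trans e3)))]
  · rintro _ (rfl | rfl | rfl | rfl)
    · exact ⟨1, Gen2.cs_one⟩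
    · exact ⟨_, hu' 1 one_ne_zero⟩
    · obtain ⟨g, hg⟩ := sl_exists_noEig (F := F)
      exact ⟨_, (index_centralizer_noEig hg).trans e2⟩
    · obtain ⟨a, ha, -⟩ := exists_dSL_generator (F := F)
      refine ⟨_, (index_centralizer_split ((disc_dSL a).2 fun e => ?_) (not_noEig_dSL a)).trans e3⟩
      have : a = 1 := Units.ext (by rwa [sq, mul_self_eq_one_iff, CharTwo.neg_eq, or_self] at e)
      rw [this, show dSL (1 : Fˣ) = 1 by ext i j; fin_cases i <;> fin_cases j <;> simp, orderOf_one] at ha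
      omega

/-- A centralizer system with the indices of `PSL₂(u + 1)`, `u + 1` a power of two. -/
structure EV {H : Type*} [Group H] (c : H → Subgroup H) (u : ℕ) : Prop extends CS c where
  u3 : 3 ≤ u
  od : ¬ 2 ∣ u
  tw : ∀ r : ℕ, r.Prime → r ∣ u + 1 → r = 2
  hi : ∀ x ≠ 1, (c x).index = u * (u + 2) ∨ (c x).index = (u + 1) * u ∨ (c x).index = (u + 1) * (u + 2)
  e1 : ∃ x ≠ 1, (c x).index = u * (u + 2)
  e2 : ∃ x ≠ 1, (c x).index = (u + 1) * u
  e3 : ∃ x ≠ 1, (c x).index = (u + 1) * (u + 2)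

namespace EV
variable {H : Type*} [Group H] [Finite H] {c : H → Subgroup H} {u : ℕ} {x y : H} (h : EV c u)
include h

theorem hF (x1 : x ≠ 1) (y1 : y ≠ 1) (le : c x ≤ c y) : c x = c y := by
  have := h.u3
  refine eq_of_le_index le (Nat.eq_of_dvd_of_lt_two_mul index_ne_zero_of_finite (index_dvd_of_le le) ?_)
  rcases h.hi x x1 with a | a | a <;> rcases h.hi y y1 with b | b | b <;> rw [a, b] <;> nlinarith

theorem cp (x1 : x ≠ 1) (y1 : y ≠ 1) (m : y ∈ c x) (co : (orderOf x).Coprime (orderOf y)) : c y = c x := by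
  have e := h.mul m co
  exact (h.hF (mul_ne_one co x1) y1 (e ▸ inf_le_right)).symm.trans (h.hF (mul_ne_one co x1) x1 (e ▸ inf_le_left))

theorem two {r l : ℕ} (x1 : x ≠ 1) (hr : r.Prime) (hl : l.Prime) (ne : r ≠ l) (dr : r ∣ #(c x)) (dl : l ∣ #(c x))
    (y1 : y ≠ 1) (m : y ∈ c x) : c y = c x := by
  obtain ⟨x', hx, px⟩ := Gen2.exists_prime_order_mem_zpowers x1
  obtain ⟨y', hy, py⟩ := Gen2.exists_prime_order_mem_zpowers y1
  have ex := h.hF x1 (ne_one_of px rfl) (h.le_of_zpowers hx)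
  have ey := h.hF y1 (ne_one_of py rfl) (h.le_of_zpowers hy)
  have m' : y' ∈ c x := zpowers_le.2 m hy
  obtain ⟨k, hk, dk, nk⟩ : ∃ k : ℕ, k.Prime ∧ k ∣ #(c x) ∧ k ≠ orderOf x' := by
    by_cases e : r = orderOf x'
    exacts [⟨l, hl, dl, fun e' => ne (e.trans e'.symm)⟩, ⟨r, hr, dr, e⟩]
  obtain ⟨w, hw, ow⟩ := Cauchy hk dk
  have ew : c w = c x := (h.cp (ne_one_of px rfl) (ne_one_of hk ow) (ex ▸ hw)
    ((Nat.coprime_primes px (ow ▸ hk)).2 (ow ▸ nk.symm))).trans ex.symm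
  by_cases e : orderOf x' = orderOf y'
  · exact ey.trans ((h.cp (ne_one_of hk ow) (ne_one_of py rfl) (ew ▸ m')
      ((Nat.coprime_primes (ow ▸ hk) py).2 (ow ▸ e ▸ nk))).trans ew)
  · exact ey.trans ((h.cp (ne_one_of px rfl) (ne_one_of py rfl) (ex ▸ m') ((Nat.coprime_primes px py).2 e)).trans ex.symm)

theorem key {r l : ℕ} (x1 : x ≠ 1) (y1 : y ≠ 1) (hr : r.Prime) (hl : l.Prime) (ne : r ≠ l) (dr : r ∣ #(c x)) (dl : l ∣ #(c x))
    (n : ¬ r ∣ (c y).index) : (c y).index = (c x).index := by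
  have := Fact.mk hr
  obtain ⟨w, hw, ow⟩ := Cauchy hr dr
  obtain ⟨P, hP⟩ := Gen2.not_dvd_index_iff.1 n
  obtain ⟨g, -, e⟩ := Sylow_Jsub (sylowIn_top P) (le_top (a := zpowers w))
    (IsPGroup.of_card (n := 1) (by rw [Nat.card_zpowers, ow, pow_one]))
  have m := h.symm (hP (e (conj_mem_cj g (mem_zpowers w))))
  rw [h.cjc, h.two x1 hr hl ne dr dl (ne_one_of hr ow) hw, mem_cj] at m
  have := h.two x1 hr hl ne dr dl (y := g⁻¹ * y * g) (fun e => y1 (by
    calc y = g * (g⁻¹ * y * g) * g⁻¹ := by group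
      _ = 1 := by rw [e]; group)) m
  rw [← this, show g⁻¹ * y * g = g⁻¹ * y * g⁻¹⁻¹ by rw [inv_inv], h.cjc, index_cj]

omit [Finite H] in
theorem cq {r : ℕ} (hr : r.Prime) : ¬ (r ∣ u ∧ r ∣ u + 1) ∧ ¬ (r ∣ u + 1 ∧ r ∣ u + 2) ∧ ¬ (r ∣ u ∧ r ∣ u + 2) := by
  refine ⟨fun ⟨a, b⟩ => hr.not_dvd_one ((Nat.dvd_add_right a).1 b), fun ⟨a, b⟩ => hr.not_dvd_one ((Nat.dvd_add_right a).1 b),
    fun ⟨a, b⟩ => h.od ?_⟩
  rwa [(Nat.prime_dvd_prime_iff_eq hr Nat.prime_two).1 ((Nat.dvd_add_right a).1 b)] at a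

theorem card : Nat.card H = (u + 1) * u * (u + 2) := by
  obtain ⟨x1, n1, e1⟩ := h.e1
  obtain ⟨x2, n2, e2⟩ := h.e2
  obtain ⟨x3, n3, e3⟩ := h.e3
  have u3 := h.u3
  obtain ⟨s, hs⟩ : (u + 1) * u * (u + 2) ∣ Nat.card H := by
    refine Nat.Coprime.mul_dvd_of_dvd_of_dvd (Nat.coprime_of_dvd fun r hr a b => ?_) (e2 ▸ index_dvd_card _)
      ((dvd_mul_left _ _).trans (e1 ▸ index_dvd_card (c x1)))
    exact (hr.dvd_mul.1 a).elim (fun a => (h.cq hr).2.1 ⟨a, b⟩) fun a => (h.cq hr).2.2 ⟨a, b⟩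
  by_contra n
  obtain ⟨r, hr, dr⟩ := Nat.exists_prime_and_dvd (show s ≠ 1 by rintro rfl; exact n (by rw [hs, mul_one]))
  have c1 : #(c x1) = (u + 1) * s := Nat.eq_of_mul_eq_mul_right (show 0 < u * (u + 2) by positivity) (by
    rw [← e1, card_mul_index, e1, hs]; ring)
  have c3 : #(c x3) = u * s := Nat.eq_of_mul_eq_mul_right (show 0 < (u + 1) * (u + 2) by positivity) (by
    rw [← e3, card_mul_index, e3, hs]; ring)
  by_cases r2 : r = 2
  · subst r2
    obtain ⟨l, hl, dl⟩ := Nat.exists_prime_and_dvd (show u ≠ 1 by omega)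
    have := h.key n3 n1 hr hl (fun e => h.od (e ▸ dl)) (c3 ▸ dr.mul_left _) (c3 ▸ dl.mul_right _) (by
      rw [e1, hr.dvd_mul]; have := h.od; omega)
    rw [e1, e3] at this
    nlinarith
  have d2 : 2 ∣ #(c x1) := c1 ▸ Dvd.dvd.mul_right (by have := h.od; omega) _
  by_cases a : r ∣ u + 2
  · have := h.key n1 n2 hr Nat.prime_two r2 (c1 ▸ dr.mul_left _) d2 (by
      rw [e2, hr.dvd_mul]; exact fun b => b.elim (fun b => r2 (h.tw r hr b)) fun b => (h.cq hr).2.2 ⟨b, a⟩)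
    rw [e1, e2] at this
    nlinarith
  · have := h.key n1 n3 hr Nat.prime_two r2 (c1 ▸ dr.mul_left _) d2 (by
      rw [e3, hr.dvd_mul]; exact fun b => b.elim (fun b => r2 (h.tw r hr b)) a)
    rw [e1, e3] at this
    nlinarith

theorem cc (x1 : x ≠ 1) : (#(c x) = u + 1 ∧ (c x).index = u * (u + 2)) ∨ (#(c x) = u + 2 ∧ (c x).index = (u + 1) * u) ∨
    (#(c x) = u ∧ (c x).index = (u + 1) * (u + 2)) := by
  have e := (c x).card_mul_index
  have u3 := h.u3
  rw [h.card] at e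
  rcases h.hi x x1 with a | a | a <;> rw [a] at e
  · exact .inl ⟨Nat.eq_of_mul_eq_mul_right (show 0 < u * (u + 2) by positivity) (by rw [e]; ring), a⟩
  · exact .inr (.inl ⟨Nat.eq_of_mul_eq_mul_right (show 0 < (u + 1) * u by positivity) (by rw [e]; ring), a⟩)
  · exact .inr (.inr ⟨Nat.eq_of_mul_eq_mul_right (show 0 < (u + 1) * (u + 2) by positivity) (by rw [e]; ring), a⟩)

theorem cent (x : H) : C1[x] = c x := by
  refine le_antisymm (fun y hy => ?_) (h.le_C x)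
  by_cases x1 : x = 1
  · exact x1 ▸ h.one y
  refine Gen2.mem_of_forall_pElt fun l hl y' hy' ⟨n, o⟩ => ?_
  have m : y' ∈ C1[x] := zpowers_le.2 hy hy'
  by_cases d : l ∣ orderOf x
  swap
  · exact h.toCS.cop (mem_cent1.1 m).symm (o ▸ ((hl.coprime_iff_not_dvd.2 d).symm.pow_right n))
  have d' := d.trans (ord_dvd_c h.toCS x)
  have nd : ¬ l ∣ (c x).index := fun b => by
    obtain ⟨k1, k2, k3⟩ := h.cq hl
    rcases h.cc x1 with ⟨a, e⟩ | ⟨a, e⟩ | ⟨a, e⟩ <;> rw [a] at d' <;> rw [e, hl.dvd_mul] at b <;> tauto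
  have p : y' ^ (c x).relIndex N[c x] ∈ c x := ((c x).subgroupOf N[c x]).pow_index_mem ⟨y', h.C_le_N x m⟩
  refine zpowers_le.2 p (mem_zpowers_pow_iff.2 ?_)
  rw [o]
  exact ((hl.coprime_iff_not_dvd.2 fun b => nd (b.trans (relIndex_dvd_index_of_le le_normalizer))).symm.pow_right n)

theorem ns : ¬ Group.IsSolvable H := fun hs => by
  have u3 := h.u3
  have od := h.od
  obtain ⟨l, hl, dl⟩ := Nat.exists_prime_and_dvd (show u ≠ 1 by omega)
  obtain ⟨m, hm, dm⟩ := Nat.exists_prime_and_dvd (show u + 2 ≠ 1 by omega)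
  have l2 : l ≠ 2 := fun e => od (e ▸ dl)
  have m2 : m ≠ 2 := fun e => by rw [e] at dm; omega
  have lm : l ≠ m := fun e => (h.cq hl).2.2 ⟨dl, e ▸ dm⟩
  have d2 : 2 ∣ u + 1 := by omega
  refine FG.not_sol_of_coclique (M := (⊤ : Subgroup H)) (s := {2, l, m})
    (Finset.card_eq_three.2 ⟨2, l, m, l2.symm, m2.symm, lm, rfl⟩).ge (fun r hr => ?_) (fun a ha b hb ab g _ o => ?_) inferInstance
  · rw [card_top, h.card]
    simp only [Finset.mem_insert, Finset.mem_singleton] at hr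
    rcases hr with rfl | rfl | rfl
    exacts [⟨Nat.prime_two, (d2.mul_right _).mul_right _⟩, ⟨hl, (dl.mul_left _).mul_right _⟩, ⟨hm, dm.mul_left _⟩]
  have g1 : g ≠ 1 := fun e => by
    rw [e, orderOf_one, eq_comm, mul_eq_one] at o
    exact ab (o.1.trans o.2.symm)
  have d : a * b ∣ #(c g) := o ▸ ord_dvd_c h.toCS g
  have da := (dvd_mul_right a b).trans d
  have db := (dvd_mul_left b a).trans d
  have k : ∀ n, n = u + 1 ∨ n = u + 2 ∨ n = u → ¬ (2 ∣ n ∧ l ∣ n) ∧ ¬ (2 ∣ n ∧ m ∣ n) ∧ ¬ (l ∣ n ∧ m ∣ n) := by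
    obtain ⟨k1, k2, k3⟩ := h.cq hl
    obtain ⟨k4, k5, k6⟩ := h.cq hm
    rintro n (e | e | e) <;> rw [e]
    · exact ⟨fun a => k1 ⟨dl, a.2⟩, fun a => k5 ⟨a.2, dm⟩, fun a => k1 ⟨dl, a.1⟩⟩
    · exact ⟨fun a => k3 ⟨dl, a.2⟩, fun a => by omega, fun a => k3 ⟨dl, a.1⟩⟩
    · exact ⟨fun a => od a.1, fun a => od a.1, fun a => k6 ⟨a.2, dm⟩⟩
  obtain ⟨k1, k2, k3⟩ := k #(c g) ((h.cc g1).imp And.left (Or.imp And.left And.left))
  simp only [Finset.mem_insert, Finset.mem_singleton] at ha hb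
  rcases ha with e | e | e <;> rcases hb with e' | e' | e' <;> rw [e] at da ab <;> rw [e'] at db ab
  exacts [ab rfl, k1 ⟨da, db⟩, k2 ⟨da, db⟩, k1 ⟨db, da⟩, ab rfl, k3 ⟨da, db⟩, k2 ⟨db, da⟩, k3 ⟨db, da⟩, ab rfl]

theorem invc {t : H} (ht : orderOf t = 2) : IsMulCommutative C1[t] :=
  inv_comm (fun t ht w w1 le => by
    rw [h.cent, h.cent] at le ⊢
    exact h.hF w1 (ne_one_of Nat.prime_two ht) le) ht

theorem psl : ∃ (F : Type) (_ : Field F) (_ : Fintype F), Nat.card F = u + 1 ∧ (2 : F) = 0 ∧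
    Nonempty (H ≃* Matrix.ProjectiveSpecialLinearGroup (Fin 2) F) := by
  have u3 := h.u3
  obtain ⟨F, _, iF, hF, h2, ⟨e⟩⟩ := psl_of_comm (G := H) (eq_bot_iff.2 fun x hx => by_contra fun x1 => by
    have := Gen2.cs_eq_one_iff.2 hx
    rw [h.cent] at this
    rcases h.hi x x1 with a | a | a <;> rw [a] at this <;> nlinarith) h.ns fun t => h.invc
  refine ⟨F, _, iF, ?_, h2, ⟨e⟩⟩
  rw [← Nat.card_eq_fintype_card] at hF
  have k := Classical.card_PSL2_mul (F := F)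
  rw [Classical.gcd_two_pred_of_even (Classical.two_eq_zero_iff_even.1 h2) (by omega), one_mul, ← Nat.card_congr e.toEquiv,
    h.card] at k
  obtain ⟨v, hv⟩ : ∃ v, Nat.card F = v + 1 := ⟨_, (Nat.sub_add_cancel (by omega)).symm⟩
  rw [hv, Nat.add_sub_cancel] at k
  rw [hv]
  have mono : ∀ a b : ℕ, a < b → (a + 1) * a * (a + 2) < (b + 1) * b * (b + 2) := fun a b l =>
    Nat.mul_lt_mul_of_le_of_lt (Nat.mul_le_mul (by omega) l.le) (by omega) (Nat.mul_pos (by omega) (by omega))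
  rcases lt_trichotomy u v with l | l | l
  · exact absurd k (mono _ _ l).ne
  · rw [l]
  · exact absurd k (mono _ _ l).ne'

end EV

theorem even_case {F : Type*} [Field F] [Fintype F] (h2 : 2 ∣ Fintype.card F) (hq : 2 < Fintype.card F)
    {G : Type*} [Group G] [Finite G]
    (h : Set.range (fun g : G => (Subgroup.centralizer ({g} : Set G)).index) = Set.range (fun g : (Matrix.ProjectiveSpecialLinearGroup (Fin 2) F) => (Subgroup.centralizer ({g} : Set (Matrix.ProjectiveSpecialLinearGroup (Fin 2) F))).index)) :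
    Nonempty (G ⧸ center G ≃* Matrix.ProjectiveSpecialLinearGroup (Fin 2) F) ∧ commutator G ⊓ center G = ⊥ := by
  rw [← Nat.card_eq_fintype_card] at h2 hq
  have f2 : (2 : F) = 0 := Classical.two_eq_zero_iff_even.2 (even_iff_two_dvd.2 h2)
  obtain ⟨u, hu⟩ : ∃ u, Nat.card F = u + 1 := ⟨_, (Nat.sub_add_cancel (by omega)).symm⟩
  have u3 : 3 ≤ u := by omega
  have h' : Set.range (fun g : G => (C1[g]).index) = {1, u * (u + 2), (u + 1) * u, (u + 1) * (u + 2)} := by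
    rw [h, ← v6b_sl f2 hu u3]
    ext n
    exact ⟨fun ⟨x, e⟩ => ⟨_, (Gen2.cs_mulEquiv (Classical.slEquivPSL f2).symm x).trans e⟩,
      fun ⟨x, e⟩ => ⟨_, (Gen2.cs_mulEquiv (Classical.slEquivPSL f2) x).trans e⟩⟩
  have hZ : ∀ z ∈ center G, ∀ x : G, x ∈ C1[z] := fun z hz x =>
    mem_centralizer_singleton_iff.2 (mem_center_iff.1 hz x)
  have ex : ∀ n, 1 < n → n ∈ ({1, u * (u + 2), (u + 1) * u, (u + 1) * (u + 2)} : Set ℕ) →
      ∃ x ≠ 1, (qc (fun x : G => C1[x]) (center G) x).index = n := fun n l m => by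
    obtain ⟨x, e⟩ := h' ▸ m
    refine ⟨x, fun x1 => l.ne' ?_, ((cs_cent G).index_qc hZ x).trans e⟩
    exact e.symm.trans (Gen2.cs_eq_one_iff.2 ((QuotientGroup.eq_one_iff x).1 x1))
  have E : EV (qc (fun x : G => C1[x]) (center G)) u := by
    refine ⟨(cs_cent G).quot hZ, u3, by omega, fun r hr d => ?_, fun x x1 => ?_, ex _ (by nlinarith) (by simp),
      ex _ (by nlinarith) (by simp), ex _ (by nlinarith) (by simp)⟩
    · have : CharP F 2 := CharTwo.of_one_ne_zero_of_two_eq_zero one_ne_zero f2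
      obtain ⟨a, -, ha⟩ := FiniteField.card F 2
      rw [← hu, Nat.card_eq_fintype_card, ha] at d
      exact (Nat.prime_dvd_prime_iff_eq hr Nat.prime_two).1 (hr.dvd_of_dvd_pow d)
    · induction x using QuotientGroup.induction_on
      rename_i x
      rw [(cs_cent G).index_qc hZ]
      exact (h' ▸ Set.mem_range_self x : _ ∈ ({1, u * (u + 2), (u + 1) * u, (u + 1) * (u + 2)} : Set ℕ)).resolve_left
        fun e => x1 ((QuotientGroup.eq_one_iff x).2 (Gen2.cs_eq_one_iff.1 e))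
  obtain ⟨K, _, _, hK, k2, ⟨e⟩⟩ := E.psl
  obtain ⟨f⟩ := Classical.nonempty_ringEquiv_of_card_eq (K := K) (F := F) (hK.trans hu.symm)
  refine ⟨⟨e.trans (Classical.pslCongr f)⟩, S0089.result fun p hp P => ?_⟩
  have := Fact.mk hp
  have ab : IsMulCommutative ((P : Subgroup G).map (QuotientGroup.mk' (center G))) := by
    have hP := P.2.map (QuotientGroup.mk' (center G))
    by_cases hp2 : p = 2
    · subst hp2
      by_cases h0 : (P : Subgroup G).map (QuotientGroup.mk' (center G)) = ⊥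
      · exact h0 ▸ abelian_bot
      obtain ⟨z, -, hz, hc⟩ := Invol.exists_central_invol hP h0
      exact abelianS (fun s hs => mem_cent1.2 (hc s hs)) (E.invc hz)
    have : CharP K 2 := CharTwo.of_one_ne_zero_of_two_eq_zero one_ne_zero k2
    let φ := (e.trans (Classical.slEquivPSL k2).symm)
    have := Classical.sl_isCyclic_of_isPGroup 2 hp2 hp2 (hP.map (φ : G ⧸ center G →* Matrix.SpecialLinearGroup (Fin 2) K))
    have := isCyclic_of_surjective _ (φ.subgroupMap ((P : Subgroup G).map (QuotientGroup.mk' (center G)))).symm.surjective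
    exact ⟨⟨fun a b => IsCyclic.isMulCommutative.is_comm.comm a b⟩⟩
  refine ⟨⟨fun a b => Subtype.ext ?_⟩⟩
  have m : ((a : G) : G ⧸ center G) ∈ C1[((b : G) : G ⧸ center G)] :=
    mem_cent1.2 (ab.comm (mem_map_of_mem _ a.2) (mem_map_of_mem _ b.2))
  rw [E.cent, (cs_cent G).mem_qc hZ] at m
  exact mem_cent1.1 m

end Cfsg.Agent.TCS
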