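import Cfsg.Agent.TCS.V2
import Mathlib.LinearAlgebra.Projectivization.PSL.PSL2

/-! Splitting `G = G' × Z(G)` when `G / Z(G) ≅ PSL₂(q)` and `G' ∩ Z(G) = 1`. (helper2) -/

set_option autoImplicit false

namespace Cfsg.Agent.TCS
open Subgroup

theorem split_fin {F : Type*} [Field F] [Fintype F] (h4 : 4 ≤ Fintype.card F) {G : Type*} [Group G]
    (e : G ⧸ center G ≃* Matrix.ProjectiveSpecialLinearGroup (Fin 2) F) (h : commutator G ⊓ center G = ⊥) :
    ∃ N A : Subgroup G, N.Normal ∧ A ≤ Subgroup.center G ∧ N ⊓ A = ⊥ ∧ N ⊔ A = ⊤ ∧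
      Nonempty (N ≃* Matrix.ProjectiveSpecialLinearGroup (Fin 2) F) := by
  classical
  have hF : ∃ a : F, a ≠ 0 ∧ a ^ 2 ≠ 1 := by
    by_contra! n
    have : (Finset.univ : Finset F) ⊆ {0, 1, -1} := fun a _ => by
      by_cases a0 : a = 0
      · simp [a0]
      · rcases sq_eq_one_iff.1 (n a a0) with b | b <;> simp [b]
    have := (Finset.card_le_card this).trans Finset.card_le_three
    rw [Finset.card_univ] at this
    omega
  let φ := e.toMonoidHom.comp (QuotientGroup.mk' (center G))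
  have sφ : Function.Surjective φ := e.surjective.comp (QuotientGroup.mk'_surjective _)
  have kφ : φ.ker = center G := by
    ext x
    simp [φ, MonoidHom.mem_ker]
  have mφ : (commutator G).map φ = ⊤ := by
    rw [commutator_def, map_commutator, map_top_of_surjective _ sφ, ← commutator_def]
    exact SL2Simple.PSL_commutator_eq_top hF
  refine ⟨commutator G, center G, inferInstance, le_rfl, h, ?_, ⟨MulEquiv.ofBijective (φ.comp (_root_.commutator G).subtype) ⟨?_, ?_⟩⟩⟩
  · rw [← kφ, ← comap_map_eq, mφ, comap_top]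
  · refine (injective_iff_map_eq_one _).2 fun x hx => Subtype.ext (mem_bot.1 (h ▸ ⟨x.2, ?_⟩))
    rw [← kφ]; exact hx
  · intro y
    obtain ⟨x, hx, rfl⟩ := mφ.ge (mem_top y)
    exact ⟨⟨x, hx⟩, rfl⟩

end Cfsg.Agent.TCS
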