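import Cfsg.Agent.TCS.B

/-! Sub- and quotient centralizer systems; the non-`F` case `NC.false` of Ito's three class sizes theorem. (helper2) -/

set_option autoImplicit false

namespace Cfsg.Agent.TCS
open Subgroup Cfsg.Agent.BG Cfsg.Agent.FG.Ito

variable {H : Type*} [Group H] {c : H → Subgroup H}

/-- Quotient system. -/
noncomputable def qc (c : H → Subgroup H) (Z : Subgroup H) [Z.Normal] (x : H ⧸ Z) : Subgroup (H ⧸ Z) :=
  (c x.out).map (QuotientGroup.mk' Z)

section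
variable (h : CS c) {Z : Subgroup H} [Z.Normal] (hZ : ∀ z ∈ Z, ∀ x, x ∈ c z)
include h hZ

theorem CS.ker_le (x : H) : (QuotientGroup.mk' Z).ker ≤ c x := by
  rw [QuotientGroup.ker_mk']; exact fun z hz => h.symm (hZ z hz x)

theorem CS.qc_mk (x : H) : qc c Z (x : H ⧸ Z) = (c x).map (QuotientGroup.mk' Z) := by
  obtain ⟨z, e⟩ := QuotientGroup.mk_out_eq_mul Z x
  rw [qc, e]
  congr 1
  ext y
  exact ⟨fun m => h.symm ((mul_mem_cancel_right (h.symm (hZ z z.2 y))).1 (h.symm m)),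
    fun m => h.symm (mul_mem (h.symm m) (h.symm (hZ z z.2 y)))⟩

theorem CS.mem_qc {x y : H} : (y : H ⧸ Z) ∈ qc c Z (x : H ⧸ Z) ↔ y ∈ c x := by
  rw [h.qc_mk hZ]
  conv_rhs => rw [← comap_map_eq_self (h.ker_le hZ x)]
  rfl

theorem CS.index_qc (x : H) : (qc c Z (x : H ⧸ Z)).index = (c x).index := by
  rw [h.qc_mk hZ, index_map_eq _ (QuotientGroup.mk'_surjective Z) (h.ker_le hZ x)]

theorem CS.quot [Finite H] : CS (qc c Z) := by
  refine ⟨fun {x y} m => ?_, fun x => ?_, fun {x y} m => ?_, fun g {x y} m => ?_, fun {x y} m co => ?_⟩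
  all_goals induction x using QuotientGroup.induction_on
  · induction y using QuotientGroup.induction_on
    exact (h.mem_qc hZ).2 (h.symm ((h.mem_qc hZ).1 m))
  · exact (h.mem_qc hZ).2 (h.self _)
  · induction y using QuotientGroup.induction_on
    exact (h.comm ((h.mem_qc hZ).1 m)).map (QuotientGroup.mk' Z)
  · induction y using QuotientGroup.induction_on
    induction g using QuotientGroup.induction_on
    exact (h.mem_qc hZ).2 (h.conj _ ((h.mem_qc hZ).1 m))
  induction y using QuotientGroup.induction_on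
  rename_i x y
  refine (h.mem_qc hZ).2 (Gen2.mem_of_forall_pElt fun q hq y' hy ⟨n, oy⟩ => h.symm
    (Gen2.mem_of_forall_pElt fun r hr x' hx ⟨n', ox⟩ => ?_))
  have tr : ∀ {x x' : H} {q n : ℕ}, q.Prime → x' ∈ zpowers x → orderOf x' = q ^ n → ¬ q ∣ orderOf (x : H ⧸ Z) → x' ∈ Z :=
    fun {x x' q n} hq hx o d => (QuotientGroup.eq_one_iff _).1 (orderOf_eq_one_iff.1 (Nat.eq_one_of_dvd_coprimes
      ((hq.coprime_iff_not_dvd.2 d).pow_left n) (o ▸ orderOf_map_dvd (QuotientGroup.mk' Z) x')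
      (orderOf_dvd_of_mem_zpowers (by obtain ⟨i, rfl⟩ := hx; exact ⟨i, by simp⟩))))
  by_cases e : q = r
  · subst e
    by_cases d : q ∣ orderOf (x : H ⧸ Z)
    · exact hZ _ (tr hq hy oy fun d' => hq.one_lt.ne' (Nat.eq_one_of_dvd_coprimes co d d')) _
    · exact h.symm (hZ _ (tr hq hx ox d) _)
  have co' : (orderOf y').Coprime (orderOf x') := by rw [oy, ox]; exact cop_pow hq hr e _ _
  refine h.cop ?_ co'
  have m' : Commute (y' : H ⧸ Z) x' := by
    obtain ⟨i, rfl⟩ := hx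
    obtain ⟨j, rfl⟩ := hy
    simpa using (m.symm.zpow_zpow j i)
  have z : y' * x' * y'⁻¹ * x'⁻¹ ∈ Z := (QuotientGroup.eq_one_iff _).1 (by simp [m'.eq])
  have cz : ∀ g, Commute (y' * x' * y'⁻¹ * x'⁻¹) g := fun g => h.comm (hZ _ z g)
  generalize ez : y' * x' * y'⁻¹ * x'⁻¹ = w at z cz
  have e1 : w ^ orderOf x' = 1 := by
    have : (w * x') ^ orderOf x' = 1 := by
      rw [← ez, inv_mul_cancel_right, conj_pow, pow_orderOf_eq_one]; simp
    rwa [(cz x').mul_pow, pow_orderOf_eq_one, mul_one] at this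
  have e2 : w ^ orderOf y' = 1 := by
    have : (w * (x' * y' * x'⁻¹)) ^ orderOf y' = 1 := by
      rw [show w * (x' * y' * x'⁻¹) = y' by rw [← ez]; group, pow_orderOf_eq_one]
    rwa [(cz _).mul_pow, conj_pow, pow_orderOf_eq_one, mul_one, mul_inv_cancel, mul_one] at this
  have : w = 1 := orderOf_eq_one_iff.1 (Nat.eq_one_of_dvd_coprimes co' (orderOf_dvd_of_pow_eq_one e2)
    (orderOf_dvd_of_pow_eq_one e1))
  exact commutatorElement_eq_one_iff_commute.1 (ez.trans this)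

end

theorem CS.sub (h : CS c) (E : Subgroup H) : CS fun x : E => (c x).subgroupOf E :=
  ⟨fun m => h.symm m, fun x => h.self x, fun m => Subtype.ext (h.comm m).eq, fun g _ _ m => h.conj (g : H) m,
    fun {x y} m co => h.cop (x := x) (y := y) (m.map E.subtype) (by simpa using co)⟩

theorem cs_cent (G : Type*) [Group G] : CS fun x : G => C1[x] :=
  ⟨fun m => mem_centralizer_singleton_iff.2 (mem_centralizer_singleton_iff.1 m).symm,
    fun _ => mem_centralizer_singleton_iff.2 rfl, fun m => (mem_centralizer_singleton_iff.1 m).symm,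
    fun g _ _ m => by rw [C1_conj]; exact conj_mem_cj g m, fun m _ => mem_centralizer_singleton_iff.2 m.symm.eq⟩

/-- The `p`-part of `k` dominates. -/
def PP (k p : ℕ) : Prop := ∀ s : ℕ, s.Prime → s ∣ k → s ≠ p → ordProj[s] k < ordProj[p] k

theorem PP.dvd {k p : ℕ} (h : PP k p) (k1 : 1 < k) : p ∣ k := by_contra fun n => by
  have := h _ (Nat.minFac_prime k1.ne') k.minFac_dvd fun e => n (e ▸ k.minFac_dvd)
  rw [Nat.factorization_eq_zero_of_not_dvd n, pow_zero] at this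
  exact this.not_ge (Nat.ordProj_pos _ _)

structure NC (c : H → Subgroup H) (a k : ℕ) (x0 y0 : H) : Prop extends CS c where
  a1 : 1 < a
  k1 : 1 < k
  hi : ∀ x ≠ 1, (c x).index = a ∨ (c x).index = a * k
  x1 : x0 ≠ 1
  yp : (orderOf y0).Prime
  le : c x0 ≤ c y0
  ix : (c x0).index = a * k
  iy : (c y0).index = a

namespace NC
variable [Finite H] {a k p q t : ℕ} {x0 y0 x y w : H} (h : NC c a k x0 y0)
include h

omit [Finite H] in
theorem lt : a < a * k := (Nat.lt_mul_iff_one_lt_right (zero_lt_one.trans h.a1)).2 h.k1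

theorem max (hx : (c x).index = a) (y1 : y ≠ 1) (e : c x ≤ c y) : c x = c y :=
  eq_of_le_index e ((h.hi y y1).elim (fun e => hx.trans e.symm) fun e' =>
    absurd (Nat.le_of_dvd (zero_lt_one.trans h.a1) (by have := index_dvd_of_le e; rwa [hx, e'] at this)) h.lt.not_ge)

theorem min (hy : (c y).index = a * k) (x1 : x ≠ 1) (e : c x ≤ c y) : c x = c y :=
  eq_of_le_index e ((h.hi x x1).elim (fun e' =>
    absurd (Nat.le_of_dvd (zero_lt_one.trans h.a1) (by have := index_dvd_of_le e; rwa [hy, e'] at this)) h.lt.not_ge)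
    fun e => e.trans hy.symm)

theorem cardk (hx : (c x).index = a) (hy : (c y).index = a * k) : #(c x) = #(c y) * k :=
  Nat.eq_of_mul_eq_mul_right (zero_lt_one.trans h.a1) (by
    rw [mul_assoc, mul_comm k, ← hy, card_mul_index, ← hx, card_mul_index])

omit [Finite H] in
theorem ne0 : c y0 ≠ c x0 := fun e => h.lt.ne (by rw [← h.ix, ← e, h.iy])

omit [Finite H] in
theorem top : c 1 = ⊤ := eq_top_iff.2 fun x _ => h.one x

theorem one' (hp : p.Prime) (d : p ∣ Nat.card H) (x : H) : p ∣ #(c x) := by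
  by_contra n
  have x1 : x ≠ 1 := by rintro rfl; exact n (by rwa [h.top, card_top])
  have B : ∀ y, (c y).index = a * k → ¬ p ∣ #(c y) := fun y hy d => n ((h.hi x x1).elim
    (fun e => h.cardk e hy ▸ d.mul_right k) fun e => card_eq (hy.trans e.symm) ▸ d)
  have A : ∀ y ≠ 1, p ∣ #(c y) → (c y).index = a := fun y y1 d => (h.hi y y1).resolve_right fun e => B y e d
  have st : ∀ u v, orderOf u = p → v ∈ c u → v ≠ 1 → ¬ p ∣ orderOf v → c u = c v := fun u v o m v1 nd => by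
    have co : (orderOf u).Coprime (orderOf v) := o ▸ hp.coprime_iff_not_dvd.2 nd
    have e := h.mul m co
    have := A _ (mul_ne_one co (ne_one_of hp o)) (o ▸ orderOf_dvd_cardG (e ▸ ⟨h.self u, h.symm m⟩))
    exact (h.max this (ne_one_of hp o) (e ▸ inf_le_left)).symm.trans (h.max this v1 (e ▸ inf_le_right))
  have n0 : ¬ p ∣ orderOf x0 := fun d => B _ h.ix (d.trans (ord_dvd_c h.toCS x0))
  by_cases e : orderOf y0 = p
  · exact h.ne0 (st _ _ e (h.le (h.self x0)) h.x1 n0)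
  obtain ⟨u, o, -⟩ := h.k0 hp d
  have du : p ∣ #(c u) := o ▸ ord_dvd_c h.toCS u
  obtain ⟨v, hv, ov⟩ := Cauchy hp (card_eq ((A u (ne_one_of hp o) du).trans h.iy.symm) ▸ du)
  have := st v y0 ov (h.symm hv) (ne_one_of h.yp rfl) fun d => e ((Nat.prime_dvd_prime_iff_eq hp h.yp).1 d).symm
  exact h.ne0 (this.symm.trans (st v x0 ov (this ▸ h.le (h.self x0)) h.x1 n0))

theorem gl {ρ : ℕ → Prop} (hq : q.Prime) (ht : t.Prime) (rq : ρ q) (rt : ρ t) (e : q ≠ t)
    (hρ : ∀ s, ρ s → s ∣ Nat.card H)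
    (h1 : ∀ {u v}, Gd ρ u → Gd ρ v → v ∈ c u → (orderOf u).Coprime (orderOf v) → c u = c v) : False := by
  have K : KH c ρ := h.kh hq ht rq rt e h1 fun {u s} _ hs r => h.one' hs (hρ s r) u
  obtain ⟨u, hu, m⟩ := K.k3 hq ht rq rt e (hρ q rq)
  have cover : (∀ s, s.Prime → ρ s → ∀ x, ordProj[s] #(c u) ∣ ordProj[s] #(c x)) → False := fun d => by
    have : c u = ⊤ := Gen2.eq_top_of_forall_exists_conj_mem _ fun x => by
      obtain ⟨g, v, -, hv, e⟩ := m (c x) (Nat.le_of_dvd (Nat.ordProj_pos _ _) (d q hq rq x))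
        (Nat.le_of_dvd (Nat.ordProj_pos _ _) (d t ht rt x))
      exact ⟨g⁻¹, by simpa using mem_cj.1 (h.cjc g u ▸ e ▸ h.symm hv)⟩
    have := h.hi u hu.1
    rw [‹c u = ⊤›, index_top] at this
    have := h.a1
    have := h.lt
    omega
  have c1 : ∀ s, ordProj[s] #(c u) ∣ ordProj[s] #(c 1) := fun s =>
    Nat.ordProj_dvd_ordProj_of_dvd (cardG_ne_zero _) (card_dvd_of_le (h.top ▸ le_top)) s
  rcases h.hi u hu.1 with iu | iu
  swap
  · refine cover fun s _ _ x => ?_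
    by_cases x1 : x = 1
    · exact x1 ▸ c1 s
    exact Nat.ordProj_dvd_ordProj_of_dvd (cardG_ne_zero _) ((h.hi x x1).elim (fun e => ⟨k, h.cardk e iu⟩)
      fun e => (card_eq (iu.trans e.symm)).dvd) s
  by_cases hs : ∃ s, s.Prime ∧ ρ s ∧ s ∣ k
  swap
  · refine cover fun s ps rs x => ?_
    by_cases x1 : x = 1
    · exact x1 ▸ c1 s
    rcases h.hi x x1 with e | e
    · rw [card_eq (iu.trans e.symm)]
    rw [h.cardk iu e, Nat.ordProj_mul _ (cardG_ne_zero _) (zero_lt_one.trans h.k1).ne',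
      Nat.factorization_eq_zero_of_not_dvd fun d => hs ⟨s, ps, rs, d⟩, pow_zero, mul_one]
  obtain ⟨s, ps, rs, ds⟩ := hs
  have := Fact.mk ps
  have a0 := card_eq (iu.trans h.iy.symm)
  obtain ⟨g, v, hv, m, ev⟩ := m (c y0) (by rw [a0]) (by rw [a0])
  have iv : (c v).index = a := by rw [ev, h.cjc, index_cj, iu]
  have cl : ∀ x, c x ≤ c v → (c x).index ≠ a * k := fun x le ix => by
    obtain ⟨T, hT⟩ := Sylow_exists s (c v)
    have : T ≤ c x := fun z hz => by
      by_cases z1 : z = 1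
      · exact z1 ▸ one_mem _
      exact h.symm (K.h1 hv (gd_pg ps rs hT.pg hz z1) (hT.1 hz) ▸ le (h.self x))
    have r := relIndex_mul_index le
    rw [iv, ix, mul_comm a] at r
    exact hT.not_dvd (ds.trans (Nat.eq_of_mul_eq_mul_right (zero_lt_one.trans h.a1) r ▸ relIndex_dvd_of_le_left _ this))
  by_cases e : c v = c y0
  · exact cl x0 (e ▸ h.le) h.ix
  obtain ⟨l, n, hl, rl, o⟩ := hv.2
  have co : (orderOf v).Coprime (orderOf y0) := by
    rw [o, ← pow_one (orderOf y0)]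
    exact cop_pow hl h.yp (fun e' => e (K.h1 hv (gd_of hl rl e'.symm) (h.symm m))) _ _
  have em := h.mul (h.symm m) co
  refine cl (v * y0) (em ▸ inf_le_left) ((h.hi _ (mul_ne_one co hv.1)).resolve_left fun i => e ?_)
  exact (h.max i hv.1 (em ▸ inf_le_left)).symm.trans (h.max i (ne_one_of h.yp rfl) (em ▸ inf_le_right))

omit [Finite H] in
theorem nW (y : H) : ((W c y).subgroupOf (c y)).Normal :=
  normal_subgroupOf_of_le_normalizer (le_normalizer.trans (h.N_le y))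

omit [Finite H] in
theorem hW (y : H) : ∀ z ∈ (W c y).subgroupOf (c y), ∀ x : c y, x ∈ (c z).subgroupOf (c y) :=
  fun _ hz x => h.mem_W.1 hz x.2

theorem locq (hy : (c y).index = a) (hp : p.Prime) (o : orderOf w = p) (e : c w = c y) :
    have := h.nW y
    ∀ v : c y ⧸ (W c y).subgroupOf (c y), v ≠ 1 → ¬ p ∣ orderOf v →
      (qc (fun x : c y => (c x).subgroupOf (c y)) _ v).index = k := by
  intro _ v v1 nd
  induction v using QuotientGroup.induction_on
  rename_i v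
  have Q := (h.sub (c y)).quot (h.hW y)
  set v' := v ^ ordProj[p] (orderOf v) with hv'
  have z : (v : c y ⧸ (W c y).subgroupOf (c y)) ∈ zpowers (v' : c y ⧸ (W c y).subgroupOf (c y)) := by
    rw [hv', QuotientGroup.mk_pow, mem_zpowers_pow_iff]
    exact (hp.coprime_iff_not_dvd.2 nd).pow_left _
  rw [le_antisymm (Q.le_of_zpowers (y := v') (by rw [hv', QuotientGroup.mk_pow]; exact npow_mem_zpowers _ _))
    (Q.le_of_zpowers z), (h.sub (c y)).index_qc (h.hW y)]
  have nw : ¬ c y ≤ c v' := fun le => v1 (by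
    rwa [(QuotientGroup.eq_one_iff v').2 (h.mem_W.2 le), zpowers_one_eq_bot, mem_bot] at z)
  have co : (orderOf w).Coprime (orderOf (v' : H)) := by
    rw [o, Subgroup.orderOf_coe, hv', orderOf_pow' _ (Nat.ordProj_pos _ _).ne', Nat.gcd_eq_right (Nat.ordProj_dvd _ _)]
    exact Nat.coprime_ordCompl hp (orderOf_pos v).ne'
  have em := h.mul (e.ge v'.2) co
  have i := (h.hi _ (mul_ne_one co (ne_one_of hp o))).resolve_left fun i =>
    nw (e.ge.trans ((h.max i (ne_one_of hp o) (em.le.trans inf_le_left)).ge.trans (em.le.trans inf_le_right)))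
  rw [em, e, ← relIndex_mul_index inf_le_left, hy, inf_comm, inf_relIndex_right, mul_comm a] at i
  exact Nat.eq_of_mul_eq_mul_right (zero_lt_one.trans h.a1) i

theorem lx {r s : ℕ} (hy : (c y).index = a) (hp : p.Prime) (o : orderOf w = p) (e : c w = c y) (hr : r.Prime) (hs : s.Prime)
    (rp : r ≠ p) (sp : s ≠ p) (rs : r ≠ s) (dr : r ∣ (W c y).relIndex (c y)) (ds : s ∣ (W c y).relIndex (c y)) :
    PP k p := fun l hl dl lp => by
  have := h.nW y
  have Q := (h.sub (c y)).quot (h.hW y)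
  by_cases a : l = r
  · exact Q.loc hp (h.locq hy hp o e) hl hs lp sp (a ▸ rs) dl ds
  · exact Q.loc hp (h.locq hy hp o e) hl hr lp rp a dl dr

theorem kd {r : ℕ} (hy : (c y).index = a) (hp : p.Prime) (o : orderOf w = p) (e : c w = c y) (hr : r.Prime)
    (rp : r ≠ p) (dr : r ∣ (W c y).relIndex (c y)) : k ∣ (W c y).relIndex (c y) := by
  have := h.nW y
  have := Fact.mk hr
  obtain ⟨v, ov⟩ := exists_prime_orderOf_dvd_card' (G := c y ⧸ (W c y).subgroupOf (c y)) r dr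
  rw [← h.locq hy hp o e v (ne_one_of hr ov) fun d => rp ((Nat.prime_dvd_prime_iff_eq hp hr).1 (ov ▸ d)).symm]
  exact index_dvd_card _

theorem inW (m : x ∈ c y) (co : (orderOf x).Coprime ((W c y).relIndex (c y))) : c y ≤ c x := by
  have := h.nW y
  refine h.mem_W.1 ((QuotientGroup.eq_one_iff (N := (W c y).subgroupOf (c y)) ⟨x, m⟩).1 (orderOf_eq_one_iff.1
    (Nat.eq_one_of_dvd_coprimes co ?_ (orderOf_dvd_natCard _))))
  rw [← Subgroup.orderOf_mk x m]
  exact orderOf_map_dvd (QuotientGroup.mk' _) _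

theorem cA (h3 : ∀ p q : ℕ, ∃ r, r.Prime ∧ r ∣ Nat.card H ∧ r ≠ p ∧ r ≠ q) {r : ℕ} (hy : (c y).index = a) (hq : q.Prime)
    (o : orderOf y = q) (n : ¬ PP k q) (hr : r.Prime) (dr : r ∣ (W c y).relIndex (c y)) : PP k r := by
  obtain ⟨s, hs⟩ : ∃ s, ∀ l, l.Prime → l ∣ (W c y).relIndex (c y) → l ≠ q → l = s := by
    by_cases a : ∃ s, s.Prime ∧ s ∣ (W c y).relIndex (c y) ∧ s ≠ q
    · obtain ⟨s, ps, ds, sq⟩ := a
      exact ⟨s, fun l pl dl lq => by_contra fun ls => n (h.lx hy hq o rfl pl ps lq sq ls dl ds)⟩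
    · exact ⟨q, fun l pl dl lq => (a ⟨l, pl, dl, lq⟩).elim⟩
  obtain ⟨l, pl, dl, lq, ls⟩ := h3 q s
  have nl : ¬ l ∣ (W c y).relIndex (c y) := fun d => ls (hs l pl d lq)
  obtain ⟨w, hw, ow⟩ := Cauchy pl (h.one' pl dl y)
  have e := (h.max hy (ne_one_of pl ow) (h.inW hw (ow ▸ pl.coprime_iff_not_dvd.2 nl))).symm
  have rl : r ≠ l := fun e => nl (e ▸ dr)
  have kd := h.kd hy pl ow e hr rl dr
  intro j pj dj jr
  exact (nl (((h.lx hy pl ow e hr pj rl (fun e => nl (e ▸ dj.trans kd)) jr.symm dr (dj.trans kd)).dvd h.k1).trans kd)).elim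

theorem false (h3 : ∀ p q : ℕ, ∃ r, r.Prime ∧ r ∣ Nat.card H ∧ r ≠ p ∧ r ≠ q) : False := by
  obtain ⟨p, hp⟩ : ∃ p, ∀ q, q.Prime → q ≠ p → ¬ PP k q := by
    by_cases a : ∃ p, p.Prime ∧ PP k p
    · obtain ⟨p, pp, a⟩ := a
      exact ⟨p, fun q pq qp b => lt_asymm (a q pq (b.dvd h.k1) qp) (b p pp (a.dvd h.k1) qp.symm)⟩
    · exact ⟨0, fun q pq _ b => a ⟨q, pq, b⟩⟩
  obtain ⟨q, hq, dq, qp, -⟩ := h3 p p
  obtain ⟨t, ht, dt, tp, tq⟩ := h3 p q
  have ta : ∀ {u v : H}, Gd (fun s => s ≠ p ∧ s ∣ Nat.card H) u → Gd (fun s => s ≠ p ∧ s ∣ Nat.card H) v → v ∈ c u →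
      (c u).index = a → c u = c v := fun {u v} hu hv m iu => by
    obtain ⟨y, hy, py⟩ := Gen2.exists_prime_order_mem_zpowers hu.1
    obtain ⟨l, n, hl, rl, o⟩ := hu.2
    obtain ⟨l', n', hl', rl', o'⟩ := hv.2
    have oy : orderOf y = l := (Nat.prime_dvd_prime_iff_eq py hl).1 (py.dvd_of_dvd_pow (o ▸ orderOf_dvd_of_mem_zpowers hy))
    have e := h.max iu (ne_one_of py rfl) (h.le_of_zpowers hy)
    refine h.max iu hv.1 (e ▸ h.inW (e ▸ m) ?_)
    rw [o']
    exact (hl'.coprime_iff_not_dvd.2 fun d => hp l' hl' rl'.1 (h.cA h3 (e ▸ iu) hl oy (hp l hl rl.1) hl' d)).pow_left _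
  refine h.gl (ρ := fun s => s ≠ p ∧ s ∣ Nat.card H) hq ht ⟨qp, dq⟩ ⟨tp, dt⟩ tq.symm (fun s r => r.2)
    fun {u v} hu hv m co => ?_
  rcases h.hi u hu.1 with iu | iu
  · exact ta hu hv m iu
  rcases h.hi v hv.1 with iv | iv
  · exact (ta hv hu (h.symm m) iv).symm
  have em := h.mul m co
  exact (h.min iu (mul_ne_one co hu.1) (em ▸ inf_le_left)).symm.trans (h.min iv (mul_ne_one co hu.1) (em ▸ inf_le_right))

end NC

end Cfsg.Agent.TCS
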