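import Cfsg.Agent.FG.Ito3
import Cfsg.Agent.BG.Base4

/-! Abstract "centralizer systems" `CS c` (model: `H = L / Z0`, `Z0` central, `c x` = image of `C_L(x)`), for Ito's theorem on
three class sizes (S3922). `W c x` is the "centre" of `c x`. (helper2) -/

set_option autoImplicit false

namespace Cfsg.Agent.TCS
open Subgroup Cfsg.Agent.BG

structure CS {H : Type*} [Group H] (c : H → Subgroup H) : Prop where
  symm : ∀ {x y}, y ∈ c x → x ∈ c y
  self : ∀ x, x ∈ c x
  comm : ∀ {x y}, y ∈ c x → Commute x y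
  conj : ∀ g {x y}, y ∈ c x → g * y * g⁻¹ ∈ c (g * x * g⁻¹)
  cop : ∀ {x y}, Commute x y → (orderOf x).Coprime (orderOf y) → y ∈ c x

/-- The "centre" of `c x`. -/
def W {H : Type*} [Group H] (c : H → Subgroup H) (x : H) : Subgroup H := ⨅ z ∈ c x, c z

/-- `y` has a prime divisor `l` of its order, prime to `x`, and no element has order `o(x) l`. -/
def Sp {H : Type*} [Group H] (x y : H) : Prop :=
  ∃ l : ℕ, l.Prime ∧ l ∣ orderOf y ∧ ¬ l ∣ orderOf x ∧ ∀ g : H, orderOf g ≠ orderOf x * l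

variable {H : Type*} [Group H] {c : H → Subgroup H} (h : CS c) {x y z : H}
include h

theorem CS.mem_W : z ∈ W c x ↔ c x ≤ c z := by
  simp only [W, mem_iInf]
  exact ⟨fun e y hy => h.symm (e y hy), fun e y hy => h.symm (e hy)⟩

theorem CS.self_W (x : H) : x ∈ W c x := h.mem_W.2 le_rfl

theorem CS.W_le (x : H) : W c x ≤ c x := fun _ hz => h.symm (h.mem_W.1 hz (h.self x))

theorem CS.W_le' (hy : y ∈ c x) : W c x ≤ c y := fun _ hz => h.symm (h.mem_W.1 hz hy)

theorem CS.cjc (g x : H) : c (g * x * g⁻¹) = cj g (c x) := by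
  ext y
  refine ⟨fun e => mem_cj.2 ?_, fun e => ?_⟩
  · simpa [mul_assoc] using h.conj g⁻¹ e
  · simpa [mul_assoc] using h.conj g (mem_cj.1 e)

theorem CS.le_of_zpowers (hy : y ∈ zpowers x) : c x ≤ c y := fun _ hz =>
  h.symm (zpowers_le.2 (h.symm hz) hy)

theorem CS.le_C (x : H) : c x ≤ C1[x] := fun _ hz => mem_centralizer_singleton_iff.2 (h.comm hz).symm.eq

theorem CS.C_le_N (x : H) : C1[x] ≤ N[c x] := fun g hg => mem_norm.2 (by
  rw [← h.cjc, mem_centralizer_singleton_iff.1 hg, mul_inv_cancel_right])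

theorem CS.one (x : H) : x ∈ c 1 := h.symm (one_mem _)

theorem CS.N_le (x : H) : N[c x] ≤ N[W c x] := fun g hg => mem_normalizer_iff.2 fun z => by
  rw [h.mem_W, h.mem_W, h.cjc, ← cj_le_cj (g := g), mem_norm.1 hg]

theorem CS.mul [Finite H] (hy : y ∈ c x) (e : (orderOf x).Coprime (orderOf y)) : c (x * y) = c x ⊓ c y :=
  le_antisymm (le_inf (h.le_of_zpowers (Gen2.mem_zpowers_mul_left (h.comm hy) e))
    (h.le_of_zpowers (Gen2.mem_zpowers_mul_right (h.comm hy) e)))
    fun _ hz => h.symm (mul_mem (h.symm hz.1) (h.symm hz.2))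

end Cfsg.Agent.TCS
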