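import Cfsg.Agent.TCS.A

/-! Conjugacy lemma `KH.k3` for centralizer systems and the local inequality `CS.loc`. (helper2) -/

set_option autoImplicit false

namespace Cfsg.Agent.TCS
open Subgroup Cfsg.Agent.BG Cfsg.Agent.FG.Ito

/-- Nontrivial element of prime power order, the prime in `ρ`. -/
def Gd {H : Type*} [Group H] (ρ : ℕ → Prop) (u : H) : Prop := u ≠ 1 ∧ ∃ s n : ℕ, s.Prime ∧ ρ s ∧ orderOf u = s ^ n

structure KH {H : Type*} [Group H] (c : H → Subgroup H) (ρ : ℕ → Prop) : Prop extends CS c where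
  h1 : ∀ {u v}, Gd ρ u → Gd ρ v → v ∈ c u → c u = c v
  h2 : ∀ {u s}, Gd ρ u → s.Prime → ρ s → s ∣ #(c u)

variable {H : Type*} [Group H] [Finite H] {c : H → Subgroup H} {ρ : ℕ → Prop} {u v w : H} {q t : ℕ} {S T X : Subgroup H}

omit [Finite H] in
theorem Gd.conj (h : Gd ρ u) (g : H) : Gd ρ (g * u * g⁻¹) :=
  ⟨fun e => h.1 (by simpa using e), by rw [BG.orderOf_conj']; exact h.2⟩

omit [Finite H] in
theorem gd_of (hq : q.Prime) (r : ρ q) (o : orderOf u = q) : Gd ρ u := ⟨ne_one_of hq o, q, 1, hq, r, by simpa using o⟩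

theorem ord_pg (hq : q.Prime) (hS : IsPGroup q S) (h : u ∈ S) : ∃ n, orderOf u = q ^ n :=
  have := Fact.mk hq
  Gen2.pElt_of_mem hS h

theorem gd_pg (hq : q.Prime) (r : ρ q) (hS : IsPGroup q S) (h : u ∈ S) (u1 : u ≠ 1) : Gd ρ u :=
  let ⟨n, e⟩ := ord_pg hq hS h
  ⟨u1, q, n, hq, r, e⟩

theorem cop_pow (hq : q.Prime) (ht : t.Prime) (e : q ≠ t) (m n : ℕ) : (q ^ m).Coprime (t ^ n) :=
  Nat.coprime_pow_primes m n hq ht e

theorem CS.k0 (h : CS c) (hq : q.Prime) (d : q ∣ Nat.card H) : ∃ u : H, orderOf u = q ∧ ¬ q ∣ N[c u].index :=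
  let ⟨u, o, e⟩ := exists_cen hq d
  ⟨u, o, fun d => e (d.trans (index_dvd_of_le (h.C_le_N u)))⟩

theorem syl_top {N : Subgroup H} (hq : q.Prime) (hS : SylowIn q S N) (hN : ¬ q ∣ N.index) : ¬ q ∣ S.index := by
  have := Fact.mk hq
  rw [← relIndex_mul_index hS.1, hq.dvd_mul]
  exact fun e => e.elim hS.not_dvd hN

namespace KH
variable (K : KH c ρ)
include K

theorem memT (hu : Gd ρ u) (ht : t.Prime) (r : ρ t) (hT : SylowIn t T (c u)) (hv : v ∈ c u) (o : ∃ n, orderOf v = t ^ n) :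
    v ∈ T := by
  have := Fact.mk ht
  obtain ⟨n, o⟩ := o
  obtain ⟨g, hg, e⟩ := Sylow_subJ hT (zpowers_le.2 hv) (IsPGroup.of_card ((Nat.card_zpowers v).trans o))
  rw [cj_of_cent (mem_centralizer_iff.2 fun w hw => ?_)] at e
  · exact e (mem_zpowers v)
  by_cases w1 : w = 1
  · simp [w1]
  exact (K.comm (K.h1 hu (gd_pg ht r hT.pg hw w1) (hT.1 hw) ▸ hg)).eq

theorem orb (hu : Gd ρ u) (hq : q.Prime) (ht : t.Prime) (r : ρ t) (e : q ≠ t) (hS : IsPGroup q S) (hn : S ≤ N[c u]) :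
    (c u).relIndex S < ordProj[t] #(c u) := by
  have := Fact.mk ht
  obtain ⟨T, hT⟩ := Sylow_exists t (c u)
  obtain ⟨w, hw, w1⟩ := (T.bot_or_exists_ne_one).resolve_left (Sylow_ne_bot hT (K.h2 hu ht r))
  obtain ⟨n, o⟩ := ord_pg ht hT.pg hw
  have cw := K.h1 hu (gd_pg ht r hT.pg hw w1) (hT.1 hw)
  rw [← card_Sylow hT, relIndex, index_eq_card]
  let _ := Fintype.ofFinite (S ⧸ (c u).subgroupOf S)
  let _ := Fintype.ofFinite T
  rw [Nat.card_eq_fintype_card, Nat.card_eq_fintype_card]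
  refine Fintype.card_lt_of_injective_of_notMem (b := 1) (fun x => ⟨(x.out : S) * w * ((x.out : S) : H)⁻¹,
    K.memT hu ht r hT ((mem_normalizer_iff.1 (hn x.out.2) w).1 (hT.1 hw)) ⟨n, by rw [BG.orderOf_conj', o]⟩⟩)
    (fun x y e' => ?_) ?_
  · rw [← x.out_eq, ← y.out_eq]
    refine QuotientGroup.eq.2 (mem_subgroupOf.2 ?_)
    obtain ⟨m, o'⟩ := ord_pg hq hS (x.out⁻¹ * y.out).2
    refine cw.ge (K.cop ?_ ?_)
    swap
    · rw [o, o']; exact cop_pow ht hq e.symm _ _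
    have e2 := congrArg Subtype.val e'
    simp only at e2
    rw [Commute, SemiconjBy]
    push_cast
    calc _ = ((x.out : S) : H)⁻¹ * ((x.out : S) * w * ((x.out : S) : H)⁻¹) * (y.out : S) := by group
      _ = _ := by rw [e2]; group
  · rintro ⟨x, e'⟩
    exact w1 (by simpa using congrArg Subtype.val e')

/-- `X` meets a conjugate of `c u` in a good element. -/
def M (c : H → Subgroup H) (ρ : ℕ → Prop) (X : Subgroup H) (u : H) : Prop :=
  ∃ g v, Gd ρ v ∧ v ∈ X ∧ c v = c (g * u * g⁻¹)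

theorem k1 (hu : Gd ρ u) (hq : q.Prime) (ht : t.Prime) (rq : ρ q) (r : ρ t) (e : q ≠ t) (hN : ¬ q ∣ N[c u].index)
    (hX : ¬ M c ρ X u) : ordProj[q] #X < ordProj[t] #(c u) := by
  have := Fact.mk hq
  obtain ⟨S, hS⟩ := Sylow_exists q X
  obtain ⟨Q, hQ⟩ := Sylow_exists q N[c u]
  obtain ⟨g, -, hg⟩ := Sylow_subJ (sylow_mk le_top hQ.pg (by simpa using syl_top hq hQ hN)) le_top hS.pg
  have := K.orb (hu.conj g) hq ht r e hS.pg (hg.trans (by rw [K.cjc, N_cj]; exact cj_mono g hQ.1))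
  have b : c (g * u * g⁻¹) ⊓ S = ⊥ := (eq_bot_iff_forall _).2 fun v hv => by_contra fun v1 =>
    hX ⟨g, v, gd_pg hq rq hS.pg hv.2 v1, hS.1 hv.2, (K.h1 (hu.conj g) (gd_pg hq rq hS.pg hv.2 v1) hv.1).symm⟩
  rwa [← inf_relIndex_right, b, relIndex_bot_left, card_Sylow hS, K.cjc, card_cj] at this

omit [Finite H] in
theorem M.cj (hu : Gd ρ u) (h : M c ρ (c u) w) : ∃ g, c u = cj g (c w) :=
  let ⟨g, _, hv, m, e⟩ := h
  ⟨g, by rw [K.h1 hu hv m, e, K.cjc]⟩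

theorem k3 (hq : q.Prime) (ht : t.Prime) (rq : ρ q) (r : ρ t) (e : q ≠ t) (d : q ∣ Nat.card H) :
    ∃ u, Gd ρ u ∧ ∀ X : Subgroup H, ordProj[q] #(c u) ≤ ordProj[q] #X → ordProj[t] #(c u) ≤ ordProj[t] #X → M c ρ X u := by
  obtain ⟨u, o, hN⟩ := K.k0 hq d
  have hu := gd_of hq rq o
  obtain ⟨w, o', hN'⟩ := K.k0 ht ((K.h2 hu ht r).trans (card_subgroup_dvd_card _))
  have hw := gd_of ht r o'
  have : M c ρ (c w) u := by_contra fun n => by
    refine lt_asymm (K.k1 hu hq ht rq r e hN n) (K.k1 hw ht hq r rq e.symm hN' fun m => n ?_)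
    obtain ⟨g, hg⟩ := M.cj K hu m
    exact ⟨g⁻¹, w, hw, K.self w, by rw [← inv_inv g, K.cjc, hg]; simp⟩
  obtain ⟨g, hg⟩ := M.cj K hw this
  rw [hg, N_cj, index_cj] at hN'
  refine ⟨u, hu, fun X a b => by_contra fun n => ?_⟩
  have := K.k1 hu hq ht rq r e hN n
  have := K.k1 hu ht hq r rq e.symm hN' n
  omega

end KH

theorem card_eq {A B : Subgroup H} (e : A.index = B.index) : #A = #B :=
  Nat.eq_of_mul_eq_mul_right (Nat.pos_of_ne_zero B.index_ne_zero_of_finite) (by rw [B.card_mul_index, ← e, A.card_mul_index])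

theorem ord_dvd_c (h : CS c) (u : H) : orderOf u ∣ #(c u) := orderOf_dvd_cardG (h.self u)

/-- From the coprime case of `h1` to the general case. -/
theorem CS.kh (h : CS c) {s r : ℕ} (hs : s.Prime) (hr : r.Prime) (rs : ρ s) (rr : ρ r) (e : s ≠ r)
    (h1 : ∀ {u v}, Gd ρ u → Gd ρ v → v ∈ c u → (orderOf u).Coprime (orderOf v) → c u = c v)
    (h2 : ∀ {u s}, Gd ρ u → s.Prime → ρ s → s ∣ #(c u)) : KH c ρ := by
  refine ⟨h, fun {u v} hu hv m => ?_, h2⟩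
  obtain ⟨l, n, hl, -, o⟩ := hu.2
  obtain ⟨l', n', hl', -, o'⟩ := hv.2
  by_cases ll : l = l'
  · subst ll
    obtain ⟨t, ht, rt, tl⟩ : ∃ t : ℕ, t.Prime ∧ ρ t ∧ l ≠ t := by
      by_cases a : l = s
      exacts [⟨r, hr, rr, a ▸ e⟩, ⟨s, hs, rs, a⟩]
    obtain ⟨w, hw, ow⟩ := Cauchy ht (h2 hu ht rt)
    have e1 := h1 hu (gd_of ht rt ow) hw (by rw [o, ow, ← pow_one t]; exact cop_pow hl ht tl _ _)
    exact e1.trans (h1 hv (gd_of ht rt ow) (h.symm (e1 ▸ m)) (by rw [o', ow, ← pow_one t]; exact cop_pow hl ht tl _ _)).symm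
  exact h1 hu hv m (by rw [o, o']; exact cop_pow hl hl' ll _ _)

theorem CS.loc (h : CS c) {p k s r : ℕ} (hp : p.Prime) (L : ∀ v ≠ 1, ¬ p ∣ orderOf v → (c v).index = k) (hs : s.Prime)
    (hr : r.Prime) (sp : s ≠ p) (rp : r ≠ p) (e : s ≠ r) (ds : s ∣ k) (dr : r ∣ Nat.card H) : ordProj[s] k < ordProj[p] k := by
  let ρ : ℕ → Prop := fun l => l ≠ p ∧ l ∣ Nat.card H
  have np : ∀ {u : H}, Gd ρ u → ¬ p ∣ orderOf u := fun ⟨_, l, n, hl, a, o⟩ d =>
    a.1 ((Nat.prime_dvd_prime_iff_eq hp hl).1 (hp.dvd_of_dvd_pow (o ▸ d))).symm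
  have L' : ∀ {u : H}, Gd ρ u → (c u).index = k := fun hu => L _ hu.1 (np hu)
  obtain ⟨u, o, -⟩ := h.k0 hr dr
  have rr : ρ r := ⟨rp, dr⟩
  have hu : Gd ρ u := gd_of hr rr o
  have rs : ρ s := ⟨sp, ds.trans (L' hu ▸ (c u).index_dvd_card)⟩
  have K : KH c ρ := h.kh hs hr rs rr e (fun {u v} hu hv m co => by
      have := L _ (mul_ne_one co hu.1) (by
        rw [(h.comm m).orderOf_mul_eq_mul_orderOf_of_coprime co, hp.dvd_mul]; exact fun d => d.elim (np hu) (np hv))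
      rw [h.mul m co] at this
      exact (eq_of_le_index inf_le_left (this.trans (L' hu).symm)).symm.trans
        (eq_of_le_index inf_le_right (this.trans (L' hv).symm)))
    fun {u l} hu hl a => by
      obtain ⟨v, ov, -⟩ := h.k0 hl a.2
      rw [card_eq ((L' hu).trans (L' (gd_of hl a ov)).symm), ← ov]
      exact ord_dvd_c h v
  obtain ⟨u0, h0, m⟩ := K.k3 hs hr rs rr e rs.2
  have all : ∀ {v : H}, Gd ρ v → N[c v].index = N[c u0].index := fun hv => by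
    have a := card_eq ((L' hv).trans (L' h0).symm)
    obtain ⟨g, hg⟩ := KH.M.cj K hv (m _ (by rw [a]) (by rw [a]))
    rw [hg, N_cj, index_cj]
  have nd : ∀ {v : H} {l : ℕ}, Gd ρ v → l.Prime → ρ l → ¬ l ∣ N[c v].index := fun hv hl a => by
    obtain ⟨w, ow, hw⟩ := h.k0 hl a.2
    rwa [all hv, ← all (gd_of hl a ow)]
  have := Fact.mk hs
  have := Fact.mk hr
  obtain ⟨S, hS⟩ := Sylow_exists s N[c u]
  obtain ⟨T, hT⟩ := Sylow_exists r (c u)
  have k0 : k ≠ 0 := L' hu ▸ (c u).index_ne_zero_of_finite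
  have a1 : ordProj[s] k ∣ (c u).relIndex S := by
    refine ((hs.coprime_iff_not_dvd.2 (syl_top hs hS (nd hu hs rs))).pow_left _).dvd_of_dvd_mul_right
      ((Nat.ordProj_dvd k s).trans ?_)
    rw [← inf_relIndex_right, relIndex_mul_index inf_le_right, ← L' hu]
    exact index_dvd_of_le inf_le_left
  have a2 := K.orb hu hs hr rr e hS.pg hS.1
  obtain ⟨g, hg, gn⟩ : ∃ g ∈ S, g ∉ c u := by
    by_contra! n
    rw [relIndex_eq_one.2 n, Nat.dvd_one] at a1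
    exact hs.one_lt.ne' (Nat.dvd_one.1 (a1 ▸ Nat.dvd_ordProj_of_dvd k0 hs ds))
  have gg : Gd ρ g := gd_pg hs rs hS.pg hg fun e => gn (e ▸ one_mem _)
  have key : ∀ a ∈ T, a ∈ c g → a = 1 := fun a ha ag => by_contra fun a1 =>
    gn (by rw [K.h1 hu (gd_pg hr rr hT.pg ha a1) (hT.1 ha)]; exact h.symm ag)
  have b : N[c g] ⊓ T = ⊥ := (eq_bot_iff_forall _).2 fun a ha => by
    obtain ⟨n, oa⟩ := ord_pg hr hT.pg ha.2
    obtain ⟨n', og⟩ := ord_pg hs hS.pg hg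
    refine key a ha.2 (h.cop ?_ (by rw [oa, og]; exact cop_pow hs hr e _ _))
    have := key (a * g * a⁻¹ * g⁻¹) (by
      rw [show a * g * a⁻¹ * g⁻¹ = a * (g * a⁻¹ * g⁻¹) by group]
      exact mul_mem ha.2 (K.memT hu hr rr hT ((mem_normalizer_iff.1 (hS.1 hg) _).1 (inv_mem (hT.1 ha.2)))
        ⟨n, by rw [BG.orderOf_conj', orderOf_inv, oa]⟩))
      (mul_mem ((mem_normalizer_iff.1 ha.1 _).1 (h.self g)) (inv_mem (h.self g)))
    exact (commutatorElement_eq_one_iff_commute.1 this).symm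
  have a3 : #T ≤ N[c g].index := by
    rw [← relIndex_bot_left, ← b, inf_relIndex_right, ← relIndex_top_right]
    exact relIndex_le_of_le_right le_top (by simpa using index_ne_zero_of_finite)
  have a4 : N[c g].index ∣ ordProj[p] k := by
    have d : N[c g].index ∣ k := L' gg ▸ index_dvd_of_le le_normalizer
    have e := Nat.eq_prime_pow_of_unique_prime_dvd (p := p) N[c g].index_ne_zero_of_finite fun {l} hl dl =>
      by_contra fun n => nd gg hl ⟨n, dl.trans (index_dvd_card _)⟩ dl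
    rw [e] at d ⊢
    exact pow_dvd_pow p ((hp.pow_dvd_iff_le_factorization k0).1 d)
  rw [← card_Sylow hT] at a2
  exact (Nat.le_of_dvd (Nat.pos_of_ne_zero (index_ne_zero_of_finite (H := (c u).subgroupOf S))) a1).trans_lt
    (a2.trans_le (a3.trans (Nat.le_of_dvd (Nat.ordProj_pos _ _) a4)))

end Cfsg.Agent.TCS
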