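import Cfsg.Agent.TCS.C

/-! Frame for S3584 / S3583: centralizer systems with the class sizes of `PSL₂(q)`, `q` odd. (helper2) -/

set_option autoImplicit false

namespace Cfsg.Agent.TCS
open Subgroup Cfsg.Agent.BG

/-- `q ≥ 7` odd, `n = (q - ε)/2` even, `m = (q + ε)/2` odd. -/
structure Num (q m n : ℕ) : Prop where
  rel : (q = 2 * n + 1 ∧ m = n + 1) ∨ (q + 1 = 2 * n ∧ m + 1 = n)
  ev : Even n
  n4 : 4 ≤ n

theorem Num.qm {q m n : ℕ} (h : Num q m n) : q.Coprime m := by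
  rcases h.rel with ⟨rfl, rfl⟩ | ⟨a, rfl⟩
  · rw [show 2 * n + 1 = n + (n + 1) by ring, Nat.coprime_add_self_left]; simp
  · rw [show q = 1 + 2 * m by omega, Nat.coprime_add_mul_right_left]; simp

theorem Num.mn {q m n : ℕ} (h : Num q m n) : m.Coprime n := by
  rcases h.rel with ⟨-, rfl⟩ | ⟨-, rfl⟩ <;> simp

theorem Num.qn {q m n : ℕ} (h : Num q m n) : q.Coprime (2 * n) := by
  rcases h.rel with ⟨rfl, -⟩ | ⟨a, -⟩
  · simp
  · rw [← a]; simp

theorem Num.m2 {q m n : ℕ} (h : Num q m n) : m.Coprime (2 * n) := by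
  refine Nat.Coprime.mul_right (Nat.coprime_two_right.2 ?_) h.mn
  obtain ⟨k, hk⟩ := h.ev
  rcases h.rel with ⟨-, a⟩ | ⟨-, a⟩
  exacts [⟨k, by omega⟩, ⟨k - 1, by omega⟩]

theorem Num.m3 {q m n : ℕ} (h : Num q m n) : 3 ≤ m := by have := h.n4; rcases h.rel with ⟨-, a⟩ | ⟨-, a⟩ <;> omega

theorem Num.q7 {q m n : ℕ} (h : Num q m n) : 7 ≤ q := by have := h.n4; rcases h.rel with ⟨a, -⟩ | ⟨a, -⟩ <;> omega

/-- The system has the order of `PSL₂(q)` and `c x` has order `q`, `m`, `n` or `2n`. -/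
structure PD {H : Type*} [Group H] (c : H → Subgroup H) (q m n : ℕ) : Prop extends CS c, Num q m n where
  card : Nat.card H = 2 * q * m * n
  hi : ∀ x ≠ 1, #(c x) = q ∨ #(c x) = m ∨ #(c x) = n ∨ #(c x) = 2 * n
  eγ : ∃ x ≠ 1, #(c x) = n
  eβ : ∃ y ≠ 1, #(c y) = 2 * n

end Cfsg.Agent.TCS
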